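import Mathlib
import Cfsg.Agent.Lib.Helper1.GNPC.ZJMain

set_option autoImplicit false

namespace Cfsg.Agent.Lib.Helper1.GNPC2

open Cfsg Cfsg.Agent.S5306 Cfsg.Agent.Lib.Helper1.TNPC Cfsg.Agent.Lib.Helper1.GNPC

universe u

structure HypSpecG (p : ℕ) where
  Good : ∀ (G : Type u) [Group G], Prop
  Hy : ∀ (G : Type u) [Group G], Subgroup G → Prop
  good_inj : ∀ {G G' : Type u} [Group G] [Group G'] [Finite G] [Finite G'] (f : G' →* G),
    Function.Injective f → Good G → Good G'
  good_quot : ∀ {G : Type u} [Group G] [Finite G] (N : Subgroup G) [N.Normal],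
    Good G → Good (G ⧸ N)
  transfer : ∀ {G G' : Type u} [Group G] [Group G'] [Finite G] [Finite G'] (f : G' →* G),
    Function.Injective f → ∀ R : Subgroup G', IsPGroup p R → Hy G (R.map f) → Hy G' R
  quotient : ∀ {G : Type u} [Group G] [Finite G] (T : Subgroup G) [T.Normal],
    (Nat.card T).Coprime p → ∀ P : Subgroup G, IsPGroup p P → Hy G P →
    Hy (G ⧸ T) (P.map (QuotientGroup.mk' T))
  of_local : ∀ {G : Type u} [Group G] [Finite G], Good G → ∀ (R : Subgroup G), IsPGroup p R →
    R ≠ ⊥ →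
    (∀ X : Subgroup G, X ≤ R → X ≠ ⊥ →
      Subgroup.normalizer (R : Set G) ≤ Subgroup.normalizer (X : Set G) →
      HasNormalPComplement p ↥(Subgroup.normalizer (X : Set G))) → Hy G R
  top : ∀ {G : Type u} [Group G] [Finite G], Good G → ∀ (P : Subgroup G), IsPGroup p P →
    P.Normal → Hy G P → HasNormalPComplement p G

def IHypG {p : ℕ} (S : HypSpecG.{u} p) (G : Type u) [Group G] : Prop :=
  ∀ (G' : Type u) [Group G'] [Finite G'], Nat.card G' < Nat.card G →
    ∀ P' : Sylow p G', S.Good G' → S.Hy G' (P' : Subgroup G') → HasNormalPComplement p G'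

section Core

variable {G : Type u} [Group G] [Finite G] {p : ℕ} [hp : Fact p.Prime] (S : HypSpecG.{u} p)

theorem sub_stepG (IH : IHypG S G) (hg : S.Good G) (M : Subgroup G) (hM : M ≠ ⊤) (R' : Sylow p M)
    (h : S.Hy G ((R' : Subgroup M).map M.subtype)) : HasNormalPComplement p ↥M :=
  IH ↥M (card_lt_of_ne_top hM) R' (S.good_inj M.subtype M.subtype_injective hg)
    (S.transfer M.subtype M.subtype_injective _ R'.isPGroup' h)

theorem quot_stepG (IH : IHypG S G) (hg : S.Good G) (hcex : ¬ HasNormalPComplement p G)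
    (P : Sylow p G)
    (hH : S.Hy G (P : Subgroup G)) (T : Subgroup G) [T.Normal] (hT : (Nat.card T).Coprime p) :
    T = ⊥ := by
  by_contra hne
  have h1 : Nat.card (G ⧸ T) < Nat.card G := by
    have e := Subgroup.card_eq_card_quotient_mul_card_subgroup T
    have h2 : 1 < Nat.card T := (Subgroup.one_lt_card_iff_ne_bot T).mpr hne
    have h3 : 0 < Nat.card (G ⧸ T) := Nat.card_pos
    rw [e]
    nlinarith
  have h2 : S.Hy (G ⧸ T) ((Sylow.mapSurjective (QuotientGroup.mk'_surjective T) P :
      Sylow p (G ⧸ T)) : Subgroup (G ⧸ T)) := by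
    rw [Sylow.coe_mapSurjective]
    exact S.quotient T hT _ P.isPGroup' hH
  exact hcex (npc_of_quotient T hT (IH _ h1 _ (S.good_quot T hg) h2))

theorem hyp_conjG (P₀ P : Sylow p G) (h : S.Hy G (P₀ : Subgroup G)) :
    S.Hy G (P : Subgroup G) := by
  obtain ⟨g, hg⟩ := MulAction.exists_smul_eq G P P₀
  apply S.transfer (MulAut.conj g).toMonoidHom (MulAut.conj g).injective _ P.isPGroup'
  have e : ((P : Subgroup G)).map (MulAut.conj g).toMonoidHom = (P₀ : Subgroup G) := by
    rw [← hg, Sylow.coe_subgroup_smul]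
    rfl
  rw [e]
  exact h

theorem exists_coreG (IH : IHypG S G) (hg : S.Good G) (hcex : ¬ HasNormalPComplement p G) (P₀ : Sylow p G)
    (hH₀ : S.Hy G (P₀ : Subgroup G)) :
    ∃ (P : Sylow p G) (H : Subgroup G), S.Hy G (P : Subgroup G) ∧ H.Normal ∧
      H ≤ (P : Subgroup G) ∧ H ≠ ⊥ ∧
      ∀ X : Subgroup G, IsPGroup p X → (P : Subgroup G) ≤ Subgroup.normalizer (X : Set G) →
        Nat.card H < Nat.card X → HasNormalPComplement p ↥(Subgroup.normalizer (X : Set G)) := by
  classical
  let T := {H : Subgroup G // IsPGroup p H ∧ H ≠ ⊥ ∧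
    ¬ HasNormalPComplement p ↥(Subgroup.normalizer (H : Set G))}
  have hne : Nonempty T := by
    by_contra hemp
    rw [not_nonempty_iff] at hemp
    apply hcex
    rw [Cfsg.Agent.S0072.result p]
    intro Q hQ hQne
    by_contra hn
    exact hemp.false ⟨Q, hQ, hQne, hn⟩
  let μ : T → ℕ := fun H => nu p (Subgroup.normalizer (H.1 : Set G)) * (Nat.card G + 1) + Nat.card H.1
  obtain ⟨⟨H, hHp, hHne, hHn⟩, hmax⟩ := Finite.exists_max μ
  set N := Subgroup.normalizer (H : Set G) with hN
  obtain ⟨R, hR⟩ := (hHp.comap_subtype (K := N)).exists_le_sylow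
  set RG := (R : Subgroup N).map N.subtype with hRG
  have hRGp : IsPGroup p RG := R.isPGroup'.map _
  obtain ⟨P, hP⟩ := hRGp.exists_le_sylow
  have hyp : S.Hy G (P : Subgroup G) := hyp_conjG S P₀ P hH₀
  have hHRG : H ≤ RG := by
    intro h hh
    exact ⟨⟨h, Subgroup.le_normalizer hh⟩, hR hh, rfl⟩
  have hRGne : RG ≠ ⊥ := ne_bot_of_le_ne_bot hHne hHRG
  have hcardRG : Nat.card RG = p ^ nu p N := by
    rw [hRG, Subgroup.card_map_of_injective N.subtype_injective]
    exact Sylow.card_eq_multiplicity R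
  have hmaxX : ∀ X : Subgroup G, IsPGroup p X → X ≠ ⊥ →
      (nu p N < nu p (Subgroup.normalizer (X : Set G)) ∨
        (nu p N ≤ nu p (Subgroup.normalizer (X : Set G)) ∧ Nat.card H < Nat.card X)) →
      HasNormalPComplement p ↥(Subgroup.normalizer (X : Set G)) := by
    intro X hXp hXne hlt
    by_contra hn
    have h1 := hmax ⟨X, hXp, hXne, hn⟩
    have h2 := mu_lt (c := Nat.card G) (Subgroup.card_le_card_group H) hlt
    exact absurd h1 (not_le.mpr h2)
  have hNtop : N = ⊤ := by
    by_contra hNtop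
    apply hHn
    apply sub_stepG S IH hg N hNtop R
    show S.Hy G RG
    by_cases hRP : RG = P
    · rw [hRP]; exact hyp
    · have hlt : RG < P := lt_of_le_of_ne hP hRP
      obtain ⟨z, hzP, hzN, hzR⟩ :=
        Cfsg.Agent.Lib.Helper18.exists_mem_normalizer_not_mem_of_lt_pGroup P.isPGroup' hlt
      set Q := Subgroup.normalizer (RG : Set G) ⊓ P with hQ
      have hQp : IsPGroup p Q := P.isPGroup'.to_le inf_le_right
      have hRQ : RG < Q := by
        refine lt_of_le_of_ne (le_inf Subgroup.le_normalizer hP) ?_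
        intro heq
        apply hzR
        rw [heq]
        exact ⟨hzN, hzP⟩
      have hν : ∀ X : Subgroup G,
          Subgroup.normalizer (RG : Set G) ≤ Subgroup.normalizer (X : Set G) →
          nu p N < nu p (Subgroup.normalizer (X : Set G)) := by
        intro X hX
        have h1 : Nat.card Q ≤ p ^ nu p (Subgroup.normalizer (X : Set G)) :=
          card_le_pow_nu hQp (inf_le_left.trans hX)
        have h2 := card_lt_of_lt' hRQ
        rw [hcardRG] at h2
        exact (Nat.pow_lt_pow_iff_right hp.out.one_lt).mp (lt_of_lt_of_le h2 h1)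
      apply S.of_local hg RG hRGp hRGne
      intro X hXR hXne hXN
      exact hmaxX X (hRGp.to_le hXR) hXne (Or.inl (hν X hXN))
  have hHnorm : H.Normal := Subgroup.normalizer_eq_top_iff.mp hNtop
  refine ⟨P, H, hyp, hHnorm, hHRG.trans hP, hHne, ?_⟩
  intro X hXp hPX hcard
  have hXne : X ≠ ⊥ := by
    rintro rfl
    rw [Subgroup.card_bot] at hcard
    have : 0 < Nat.card H := Nat.card_pos
    omega
  apply hmaxX X hXp hXne
  right
  refine ⟨?_, hcard⟩
  have h1 : Nat.card (P : Subgroup G) ≤ p ^ nu p (Subgroup.normalizer (X : Set G)) :=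
    card_le_pow_nu P.isPGroup' hPX
  rw [Sylow.card_eq_multiplicity] at h1
  have h2 := (Nat.pow_le_pow_iff_right hp.out.one_lt).mp h1
  have h3 : nu p N = (Nat.card G).factorization p := by
    show (Nat.card N).factorization p = _
    rw [hNtop, Subgroup.card_top]
  rw [h3]
  exact h2

end Core

end Cfsg.Agent.Lib.Helper1.GNPC2
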