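import Mathlib
import Cfsg.Agent.Lib.Helper1.GNPC2.Cex

set_option autoImplicit false

namespace Cfsg.Agent.Lib.Helper1.GNPC2

open Cfsg Cfsg.Agent.S5306 Cfsg.Agent.Lib.Helper1.TNPC Cfsg.Agent.Lib.Helper1.GNPC

universe u

section Main

variable {p : ℕ} [hp : Fact p.Prime]

theorem finalCfg_of_minCexG {G : Type u} [Group G] [Finite G]
    {P : Sylow p G} {H : Subgroup G} [hHn : H.Normal] {Kb : Subgroup (G ⧸ H)}
    {S : HypSpecG.{u} p} (c : MinCexG S G P H) (k : KCtx p G P H Kb) :
    FinalCfg p G P H Kb where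
  k := k
  hHP := c.hHP
  hHne := c.hHne
  npl := fun X _ hX => c.normal_pgroup_le X hX
  opp := fun T _ hT => c.opp T hT
  cent := cent_leG c k
  f2 := F2G c k
  kne := K_ne_HG c k

theorem generic_npcG_aux (S : HypSpecG.{u} p)
    (final : ∀ (G : Type u) [Group G] [Finite G] (P : Sylow p G) (H : Subgroup G) [H.Normal]
      (Kb : Subgroup (G ⧸ H)), FinalCfg p G P H Kb → S.Good G → S.Hy G (P : Subgroup G) →
      HasNormalPComplement p G) :
    ∀ (n : ℕ) (G : Type u) [Group G] [Finite G],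
    Nat.card G = n → ∀ P : Sylow p G, S.Good G → S.Hy G (P : Subgroup G) →
      HasNormalPComplement p G := by
  intro n
  induction n using Nat.strong_induction_on with
  | _ n ih =>
    intro G _ _ hn P hg hyp
    by_contra hcex
    have IH : IHypG S G := by
      intro G' _ _ hlt P' hg' h'
      exact ih (Nat.card G') (hn ▸ hlt) G' rfl P' hg' h'
    obtain ⟨P₁, H, hyp₁, hHn, hHP, hHne, hC⟩ := exists_coreG S IH hg hcex P hyp
    haveI := hHn
    have c : MinCexG S G P₁ H := ⟨IH, hg, hcex, hyp₁, hHP, hHne, hC⟩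
    obtain ⟨Kb, hKn, hKc, j, hj⟩ := npc_iff.mp c.quot_npc
    have k : KCtx p G P₁ H Kb := ⟨hKn, hKc, ⟨j, hj⟩⟩
    exact hcex (final G P₁ H Kb (finalCfg_of_minCexG c k) hg hyp₁)

theorem generic_npcG (S : HypSpecG.{u} p)
    (final : ∀ (G : Type u) [Group G] [Finite G] (P : Sylow p G) (H : Subgroup G) [H.Normal]
      (Kb : Subgroup (G ⧸ H)), FinalCfg p G P H Kb → S.Good G → S.Hy G (P : Subgroup G) →
      HasNormalPComplement p G)
    {G : Type u} [Group G] [Finite G] (P : Sylow p G) (hg : S.Good G)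
    (h : S.Hy G (P : Subgroup G)) :
    HasNormalPComplement p G :=
  generic_npcG_aux S final (Nat.card G) G rfl P hg h

end Main

end Cfsg.Agent.Lib.Helper1.GNPC2
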