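import Mathlib
import Cfsg.Agent.Lib.Helper1.GNPC2.Main
import Cfsg.Agent.S5299

set_option autoImplicit false

namespace Cfsg.Agent.Lib.Helper1.GNPC2

open Cfsg Cfsg.Agent.S5306 Cfsg.Agent.Lib.Helper1.TNPC Cfsg.Agent.Lib.Helper1.GNPC
  Cfsg.Agent.Lib.Helper9

section TJA

variable {G : Type*} [Group G] {G' : Type*} [Group G']

theorem tja_map (f : G →* G') {S : Subgroup G} (hf : Set.InjOn f (S : Set G)) :
    Cfsg.thompsonSubgroupAOf (S.map f) = (Cfsg.thompsonSubgroupAOf S).map f := by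
  rw [thompsonSubgroupAOf_eq_sSup, thompsonSubgroupAOf_eq_sSup]
  apply le_antisymm
  · apply sSup_le
    intro B hB
    obtain ⟨A, hA, rfl⟩ := exists_of_famQ_comm_map f hf hB
    exact Subgroup.map_mono (le_sSup hA)
  · rw [Subgroup.map_le_iff_le_comap]
    apply sSup_le
    intro A hA
    rw [← Subgroup.map_le_iff_le_comap]
    exact le_sSup (famQ_comm_map f hf hA)

theorem tja_le (S : Subgroup G) : Cfsg.thompsonSubgroupAOf S ≤ S := by
  rw [thompsonSubgroupAOf_eq_sSup]
  exact sSup_le (fun A hA => hA.1)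

theorem tja_ne_bot [Finite G] {p : ℕ} [Fact p.Prime] {S : Subgroup G} (hS : IsPGroup p S)
    (hne : S ≠ ⊥) : Cfsg.thompsonSubgroupAOf S ≠ ⊥ := by
  have h1 : Cfsg.centerThompsonAOf S ≤ Cfsg.thompsonSubgroupAOf S := by
    unfold Cfsg.centerThompsonAOf
    exact inf_le_left
  exact ne_bot_of_le_ne_bot (ctA_ne_bot hS hne) h1

theorem normalizer_le_normalizer_tja (S : Subgroup G) :
    Subgroup.normalizer (S : Set G) ≤
      Subgroup.normalizer (Cfsg.thompsonSubgroupAOf S : Set G) := by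
  intro g hg
  apply zj_mem_normalizer_of_map_conj_eq
  rw [← tja_map _ ((MulAut.conj g).injective.injOn), zj_map_conj_eq_of_mem_normalizer hg]

theorem tja_eq_of_forall_le [Finite G] {P H : Subgroup G} (hHP : H ≤ P)
    (hall : ∀ A ∈ famQ (fun A : Subgroup G => IsMulCommutative A) P, A ≤ H) :
    Cfsg.thompsonSubgroupAOf H = Cfsg.thompsonSubgroupAOf P := by
  rw [thompsonSubgroupAOf_eq_sSup, thompsonSubgroupAOf_eq_sSup,
    famQ_eq_of_forall_le _ isMulCommutative_bot' hHP hall]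

theorem involves_of_injective {X : Type*} [Group X] (f : G' →* G) (hf : Function.Injective f)
    (h : Cfsg.Involves X G') : Cfsg.Involves X G := by
  obtain ⟨K, R, hn, ⟨e⟩⟩ := h
  haveI := hn
  apply Cfsg.Agent.S5299.involves_of_inj_surj (f.comp K.subtype)
    (hf.comp K.subtype_injective)
    (e.toMonoidHom.comp (QuotientGroup.mk' (R.subgroupOf K)))
  exact e.surjective.comp (QuotientGroup.mk'_surjective _)

theorem involves_of_quotient' {X : Type*} [Group X] (N : Subgroup G) [N.Normal]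
    (h : Cfsg.Involves X (G ⧸ N)) : Cfsg.Involves X G := by
  obtain ⟨K, R, hn, ⟨e⟩⟩ := h
  haveI := hn
  apply Cfsg.Agent.S5299.involves_of_surj (K.comap (QuotientGroup.mk' N))
    ((e.toMonoidHom.comp (QuotientGroup.mk' (R.subgroupOf K))).comp
      ((QuotientGroup.mk' N).subgroupComap K))
  intro x
  obtain ⟨kb, hkb⟩ := (e.surjective.comp (QuotientGroup.mk'_surjective (R.subgroupOf K))) x
  obtain ⟨g, hg⟩ := QuotientGroup.mk'_surjective N (kb : G ⧸ N)
  refine ⟨⟨g, ?_⟩, ?_⟩
  · rw [Subgroup.mem_comap, hg]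
    exact kb.2
  · rw [← hkb]
    have hk : ((QuotientGroup.mk' N).subgroupComap K) ⟨g, by
        rw [Subgroup.mem_comap, hg]
        exact kb.2⟩ = kb := Subtype.ext hg
    show e (QuotientGroup.mk' (R.subgroupOf K) (((QuotientGroup.mk' N).subgroupComap K) _)) = _
    rw [hk]
    rfl

end TJA

end Cfsg.Agent.Lib.Helper1.GNPC2
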