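import Mathlib

set_option autoImplicit false

namespace Cfsg.Agent.Lib.Helper1.GNPC2

section FF1

variable {V : Type*} [CommGroup V]

def fixSub (D : Subgroup (MulAut V)) : Subgroup V where
  carrier := {v | ∀ d ∈ D, d v = v}
  one_mem' := fun d _ => map_one d
  mul_mem' := by
    intro a b ha hb d hd
    rw [map_mul, ha d hd, hb d hd]
  inv_mem' := by
    intro a ha d hd
    rw [map_inv, ha d hd]

theorem mem_fixSub {D : Subgroup (MulAut V)} {v : V} : v ∈ fixSub D ↔ ∀ d ∈ D, d v = v := Iff.rfl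

theorem fixSub_anti {D E : Subgroup (MulAut V)} (h : E ≤ D) : fixSub D ≤ fixSub E :=
  fun _ hv d hd => hv d (h hd)

def commHom (y : MulAut V) : V →* V := y.toMonoidHom / MonoidHom.id V

theorem commHom_apply (y : MulAut V) (v : V) : commHom y v = y v / v := rfl

def commSub (y : MulAut V) : Subgroup V := (commHom y).range

theorem mem_commSub {y : MulAut V} {u : V} : u ∈ commSub y ↔ ∃ v : V, y v / v = u := Iff.rfl

theorem commSub_ne_bot {y : MulAut V} (hy : y ≠ 1) : commSub y ≠ ⊥ := by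
  intro h
  apply hy
  ext v
  have h1 : y v / v ∈ commSub y := ⟨v, rfl⟩
  rw [h, Subgroup.mem_bot] at h1
  rw [MulAut.one_apply]
  exact div_eq_one.mp h1

theorem commSub_inv_of_commute {y d : MulAut V} (h : d * y = y * d) :
    ∀ u ∈ commSub y, d u ∈ commSub y := by
  intro u hu
  obtain ⟨v, rfl⟩ := mem_commSub.mp hu
  refine mem_commSub.mpr ⟨d v, ?_⟩
  rw [map_div]
  have : d (y v) = y (d v) := by
    rw [← MulAut.mul_apply, h, MulAut.mul_apply]
  rw [this]

theorem commSub_inv_of_invert {y d : MulAut V} (h : d * y * d⁻¹ = y⁻¹) :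
    ∀ u ∈ commSub y, d u ∈ commSub y := by
  intro u hu
  obtain ⟨v, rfl⟩ := mem_commSub.mp hu
  have h1 : d * y = y⁻¹ * d := by
    rw [← h]
    group
  have h2 : d (y v) = y⁻¹ (d v) := by
    rw [← MulAut.mul_apply, h1, MulAut.mul_apply]
  have h3 : (y (y⁻¹ (d v)) / (y⁻¹ (d v)))⁻¹ ∈ commSub y :=
    (commSub y).inv_mem (mem_commSub.mpr ⟨y⁻¹ (d v), rfl⟩)
  rw [map_div, h2]
  rw [MulAut.apply_inv_self, inv_div] at h3
  exact h3

theorem commSub_self_inv (y : MulAut V) : ∀ u ∈ commSub y, y u ∈ commSub y :=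
  commSub_inv_of_commute rfl

theorem pow_apply_fixed (y : MulAut V) (u : V) (h : y u = u) (i : ℕ) : (y ^ i) u = u := by
  induction i with
  | zero => rfl
  | succ i ih => rw [pow_succ, MulAut.mul_apply, h, ih]

theorem prod_shift (y : MulAut V) (n : ℕ) (hn : y ^ n = 1) (w : V) :
    ∏ i ∈ Finset.range n, (y ^ i) (y w) = ∏ i ∈ Finset.range n, (y ^ i) w := by
  have e : ∀ i, (y ^ i) (y w) = (y ^ (i + 1)) w := by
    intro i
    rw [pow_succ, MulAut.mul_apply]
  simp_rw [e]
  cases n with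
  | zero => simp
  | succ m =>
    rw [Finset.prod_range_succ, Finset.prod_range_succ', hn, MulAut.one_apply, pow_zero,
      MulAut.one_apply]

theorem commSub_fix_trivial (hV2 : ∀ v : V, v * v = 1) {y : MulAut V} {n : ℕ} (hn : Odd n)
    (hyn : y ^ n = 1) : ∀ u ∈ commSub y, y u = u → u = 1 := by
  intro u₀ hu₀ hfix
  obtain ⟨v, rfl⟩ := mem_commSub.mp hu₀
  set u := y v / v with hu
  have h1 : ∏ i ∈ Finset.range n, (y ^ i) u = u ^ n := by
    rw [Finset.prod_congr rfl (fun i _ => pow_apply_fixed y u hfix i), Finset.prod_const,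
      Finset.card_range]
  have h2 : ∏ i ∈ Finset.range n, (y ^ i) u = 1 := by
    have e : ∀ i, (y ^ i) u = (y ^ i) (y v) / (y ^ i) v := by
      intro i
      rw [hu, map_div]
    simp_rw [e]
    rw [Finset.prod_div_distrib, prod_shift y n hyn v, div_self']
  obtain ⟨k, hk⟩ := hn
  have h3 : u ^ n = u := by
    rw [hk, pow_succ, pow_mul, pow_two, hV2 u, one_pow, one_mul]
  rw [← h3, ← h1, h2]

end FF1

end Cfsg.Agent.Lib.Helper1.GNPC2
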