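import Mathlib
import Cfsg.Agent.Lib.Helper1.GNPC2.FF1

set_option autoImplicit false

namespace Cfsg.Agent.Lib.Helper1.GNPC2

section FF2

variable {V : Type*} [CommGroup V] [Finite V]

theorem card_modEq_fixed (Γ₀ : Subgroup (MulAut V)) (U : Subgroup V)
    (hinv : ∀ g ∈ Γ₀, ∀ u ∈ U, g u ∈ U) {p : ℕ} [Fact p.Prime] (hΓ : IsPGroup p Γ₀) :
    Nat.card U ≡ Nat.card {u : U // ∀ g ∈ Γ₀, g (u : V) = u} [MOD p] := by
  letI : MulAction ↥Γ₀ ↥U :=
    { smul := fun g u => ⟨(g : MulAut V) u, hinv g g.2 u u.2⟩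
      one_smul := fun u => Subtype.ext rfl
      mul_smul := fun g h u => Subtype.ext rfl }
  have h1 := hΓ.card_modEq_card_fixedPoints ↥U
  have e : ↥(MulAction.fixedPoints ↥Γ₀ ↥U) ≃ {u : U // ∀ g ∈ Γ₀, g (u : V) = u} :=
    Equiv.subtypeEquivRight (by
      intro u
      constructor
      · intro h g hg
        have := h ⟨g, hg⟩
        exact congrArg Subtype.val this
      · intro h g
        exact Subtype.ext (h g g.2))
  rw [Nat.card_congr e] at h1
  exact h1

theorem exists_fixed_of_two_group (hV2 : ∀ v : V, v * v = 1) (B : Subgroup (MulAut V))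
    (hB2 : ∀ d ∈ B, d * d = 1) (U : Subgroup V) (hinv : ∀ g ∈ B, ∀ u ∈ U, g u ∈ U)
    (hU : U ≠ ⊥) : ∃ u ∈ U, u ≠ 1 ∧ ∀ d ∈ B, d u = u := by
  haveI : Fact (Nat.Prime 2) := ⟨Nat.prime_two⟩
  have hBp : IsPGroup 2 B := by
    rintro ⟨d, hd⟩
    refine ⟨1, ?_⟩
    apply Subtype.ext
    rw [pow_one, Subgroup.coe_pow, Subgroup.coe_one, pow_two]
    exact hB2 d hd
  have h1 := card_modEq_fixed B U hinv hBp
  obtain ⟨u₀, hu₀U, hu₀⟩ := (Subgroup.ne_bot_iff_exists_ne_one).mp hU |>.imp (fun a h => h) |> fun ⟨a, ha⟩ => (⟨a.1, a.2, fun h => ha (Subtype.ext h)⟩ : ∃ u₀ : V, u₀ ∈ U ∧ u₀ ≠ 1)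
  have h2 : 2 ∣ Nat.card U := by
    have ho : orderOf (⟨u₀, hu₀U⟩ : U) = 2 := by
      apply orderOf_eq_prime
      · apply Subtype.ext
        rw [Subgroup.coe_pow, Subgroup.coe_one, pow_two]
        exact hV2 u₀
      · intro h
        exact hu₀ (congrArg Subtype.val h)
    rw [← ho]
    exact orderOf_dvd_natCard _
  by_contra hall
  push Not at hall
  have h3 : Nat.card {u : U // ∀ g ∈ B, g (u : V) = u} = 1 := by
    rw [Nat.card_eq_one_iff_unique]
    refine ⟨⟨?_⟩, ⟨⟨⟨1, U.one_mem⟩, fun g _ => map_one g⟩⟩⟩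
    rintro ⟨⟨a, ha⟩, hfa⟩ ⟨⟨b, hb⟩, hfb⟩
    apply Subtype.ext
    apply Subtype.ext
    show a = b
    have ha1 : a = 1 := by
      by_contra hne
      obtain ⟨d, hd, hdu⟩ := hall a ha hne
      exact hdu (hfa d hd)
    have hb1 : b = 1 := by
      by_contra hne
      obtain ⟨d, hd, hdu⟩ := hall b hb hne
      exact hdu (hfb d hd)
    rw [ha1, hb1]
  rw [h3] at h1
  have h4 : Nat.card U % 2 = 1 % 2 := h1
  omega

theorem card_modEq_one_of_fpf {q : ℕ} [hq : Fact q.Prime] (y : MulAut V) (hy : orderOf y = q)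
    (U : Subgroup V) (hinv : ∀ u ∈ U, y u ∈ U) (hfpf : ∀ u ∈ U, y u = u → u = 1) :
    Nat.card U ≡ 1 [MOD q] := by
  have hZp : IsPGroup q (Subgroup.zpowers y) := by
    apply IsPGroup.of_card (n := 1)
    rw [Nat.card_zpowers, hy, pow_one]
  have hinv' : ∀ g ∈ Subgroup.zpowers y, ∀ u ∈ U, g u ∈ U := by
    intro g hg
    have hle : Subgroup.zpowers y ≤
        { carrier := {g : MulAut V | ∀ u : V, (u ∈ U ↔ g u ∈ U)}
          one_mem' := fun u => Iff.rfl
          mul_mem' := by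
            intro a b ha hb u
            rw [MulAut.mul_apply]
            exact (hb u).trans (ha (b u))
          inv_mem' := by
            intro a ha u
            rw [ha (a⁻¹ u), MulAut.apply_inv_self] } := by
      rw [Subgroup.zpowers_le]
      intro u
      constructor
      · exact hinv u
      · intro h
        have hinj : Function.Injective (fun u : U => (⟨y u, hinv u u.2⟩ : U)) := by
          intro a b hab
          apply Subtype.ext
          exact y.injective (congrArg Subtype.val hab)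
        have hsurj := Finite.surjective_of_injective hinj
        obtain ⟨w, hw⟩ := hsurj ⟨y u, h⟩
        have := y.injective (congrArg Subtype.val hw)
        rw [← this]
        exact w.2
    intro u hu
    exact (hle hg u).mp hu
  have h1 := card_modEq_fixed (Subgroup.zpowers y) U hinv' hZp
  have h3 : Nat.card {u : U // ∀ g ∈ Subgroup.zpowers y, g (u : V) = u} = 1 := by
    rw [Nat.card_eq_one_iff_unique]
    refine ⟨⟨?_⟩, ⟨⟨⟨1, U.one_mem⟩, fun g _ => map_one g⟩⟩⟩
    rintro ⟨⟨a, ha⟩, hfa⟩ ⟨⟨b, hb⟩, hfb⟩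
    apply Subtype.ext
    apply Subtype.ext
    show a = b
    rw [hfpf a ha (hfa y (Subgroup.mem_zpowers y)), hfpf b hb (hfb y (Subgroup.mem_zpowers y))]
  rw [h3] at h1
  exact h1

end FF2

end Cfsg.Agent.Lib.Helper1.GNPC2
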