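import Mathlib
import Cfsg.Agent.Lib.Helper1.GNPC2.FF2

set_option autoImplicit false

namespace Cfsg.Agent.Lib.Helper1.GNPC2

theorem exists_min_card {Γ : Type*} [Group Γ] (P : Subgroup Γ → Prop) (h : ∃ B, P B) :
    ∃ B, P B ∧ ∀ E, P E → Nat.card B ≤ Nat.card E := by
  classical
  have hex : ∃ k, ∃ B, P B ∧ Nat.card B = k := by
    obtain ⟨B, hB⟩ := h
    exact ⟨_, B, hB, rfl⟩
  obtain ⟨B, hB, hk⟩ := Nat.find_spec hex
  refine ⟨B, hB, fun E hE => ?_⟩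
  rw [hk]
  exact Nat.find_min' hex ⟨E, hE, rfl⟩

section FF3

variable {V : Type*} [CommGroup V] [Finite V]

structure FFHyp (X D : Subgroup (MulAut V)) (n : ℕ) : Prop where
  hV2 : ∀ v : V, v * v = 1
  hXc : ∀ x ∈ X, ∀ x' ∈ X, x * x' = x' * x
  hn : Odd n
  hXn : ∀ x ∈ X, x ^ n = 1
  hDc : ∀ d ∈ D, ∀ d' ∈ D, d * d' = d' * d
  hD2 : ∀ d ∈ D, d * d = 1
  hDX : ∀ d ∈ D, ∀ x ∈ X, d * x * d⁻¹ ∈ X
  hfaith : ∀ d ∈ D, (∀ x ∈ X, d * x * d⁻¹ = x) → d = 1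

variable {X D : Subgroup (MulAut V)} {n : ℕ}

theorem FFHyp.inv_eq (h : FFHyp X D n) {d : MulAut V} (hd : d ∈ D) : d⁻¹ = d :=
  inv_eq_of_mul_eq_one_left (h.hD2 d hd)

theorem FFHyp.eq_of_sq (h : FFHyp X D n) {x : MulAut V} (hx : x ∈ X) {v : V}
    (hv : (x * x) v = v) : x v = v := by
  obtain ⟨k, hk⟩ := h.hn
  have h1 : ∀ i : ℕ, ((x * x) ^ i) v = v := pow_apply_fixed (x * x) v hv
  have h2 : x = (x * x) ^ (k + 1) := by
    rw [← pow_two, ← pow_mul]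
    have : 2 * (k + 1) = n + 1 := by omega
    rw [this, pow_succ, h.hXn x hx, one_mul]
  rw [h2]
  exact h1 _

def invSub (X : Subgroup (MulAut V)) (b : MulAut V) (hXc : ∀ x ∈ X, ∀ x' ∈ X, x * x' = x' * x) :
    Subgroup (MulAut V) where
  carrier := {x | x ∈ X ∧ b * x * b⁻¹ = x⁻¹}
  one_mem' := ⟨X.one_mem, by group⟩
  mul_mem' := by
    rintro x x' ⟨hx, hbx⟩ ⟨hx', hbx'⟩
    refine ⟨X.mul_mem hx hx', ?_⟩
    have e : b * (x * x') * b⁻¹ = (b * x * b⁻¹) * (b * x' * b⁻¹) := by group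
    rw [e, hbx, hbx', mul_inv_rev]
    exact hXc _ (X.inv_mem hx) _ (X.inv_mem hx')
  inv_mem' := by
    rintro x ⟨hx, hbx⟩
    refine ⟨X.inv_mem hx, ?_⟩
    have e : b * x⁻¹ * b⁻¹ = (b * x * b⁻¹)⁻¹ := by group
    rw [e, hbx]

theorem exists_invSub_ne (h : FFHyp X D n) {b : MulAut V} (hb : b ∈ D) (hb1 : b ≠ 1) :
    invSub X b h.hXc ≠ ⊥ := by
  intro hbot
  apply hb1
  apply h.hfaith b hb
  intro x hx
  have hbx : b * x * b⁻¹ ∈ X := h.hDX b hb x hx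
  have hz : x⁻¹ * (b * x * b⁻¹) ∈ invSub X b h.hXc := by
    refine ⟨X.mul_mem (X.inv_mem hx) hbx, ?_⟩
    have e : b * (x⁻¹ * (b * x * b⁻¹)) * b⁻¹ = (b * x * b⁻¹)⁻¹ * ((b * b) * x * (b * b)⁻¹) := by
      group
    have e2 : (x⁻¹ * (b * x * b⁻¹))⁻¹ = (b * x * b⁻¹)⁻¹ * x := by group
    rw [e, e2, h.hD2 b hb, one_mul, inv_one, mul_one]
  rw [hbot, Subgroup.mem_bot] at hz
  exact (inv_mul_eq_one.mp hz).symm

theorem invSub_le (X : Subgroup (MulAut V)) (b : MulAut V)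
    (hXc : ∀ x ∈ X, ∀ x' ∈ X, x * x' = x' * x) : invSub X b hXc ≤ X := fun _ hx => hx.1

theorem invSub_conj (h : FFHyp X D n) {b d : MulAut V} (hb : b ∈ D) (hd : d ∈ D) :
    ∀ x ∈ invSub X b h.hXc, d * x * d⁻¹ ∈ invSub X b h.hXc := by
  rintro x ⟨hx, hbx⟩
  refine ⟨h.hDX d hd x hx, ?_⟩
  have hc : b * d = d * b := h.hDc b hb d hd
  have e : b * (d * x * d⁻¹) * b⁻¹ = (b * d) * x * (b * d)⁻¹ := by group
  have e2 : (d * x * d⁻¹)⁻¹ = d * x⁻¹ * d⁻¹ := by group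
  rw [e, hc, e2, ← hbx]
  group

theorem exists_eigen (h : FFHyp X D n) {B : Subgroup (MulAut V)} (hBD : B ≤ D) {b : MulAut V}
    (hb : b ∈ B) (hb1 : b ≠ 1) :
    ∃ Y : Subgroup (MulAut V), Y ≤ invSub X b h.hXc ∧ Y ≠ ⊥ ∧
      (∀ d ∈ B, ∀ y ∈ Y, d * y * d⁻¹ ∈ Y) ∧
      ∀ d ∈ B, (∀ y ∈ Y, d * y * d⁻¹ = y) ∨ (∀ y ∈ Y, d * y * d⁻¹ = y⁻¹) := by
  obtain ⟨Y, ⟨hY1, hY2, hY3⟩, hmin⟩ := exists_min_card
    (fun Y : Subgroup (MulAut V) => Y ≤ invSub X b h.hXc ∧ Y ≠ ⊥ ∧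
      ∀ d ∈ B, ∀ y ∈ Y, d * y * d⁻¹ ∈ Y)
    ⟨invSub X b h.hXc, le_refl _, exists_invSub_ne h (hBD hb) hb1,
      fun d hd => invSub_conj h (hBD hb) (hBD hd)⟩
  refine ⟨Y, hY1, hY2, hY3, ?_⟩
  intro d hd
  set Yp := Y ⊓ Subgroup.centralizer ({d} : Set (MulAut V)) with hYp
  have hmemYp : ∀ y, y ∈ Yp ↔ y ∈ Y ∧ d * y = y * d := by
    intro y
    rw [hYp, Subgroup.mem_inf, Subgroup.mem_centralizer_iff]
    constructor
    · rintro ⟨h1, h2⟩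
      exact ⟨h1, h2 d rfl⟩
    · rintro ⟨h1, h2⟩
      refine ⟨h1, ?_⟩
      intro g hg
      rw [Set.mem_singleton_iff.mp hg]
      exact h2
  by_cases hbot : Yp = ⊥
  · right
    intro y hy
    have hyX : y ∈ X := (hY1 hy).1
    have hdy : d * y * d⁻¹ ∈ Y := hY3 d hd y hy
    have hdyX : d * y * d⁻¹ ∈ X := (hY1 hdy).1
    have hw : y * (d * y * d⁻¹) ∈ Yp := by
      rw [hmemYp]
      refine ⟨Y.mul_mem hy hdy, ?_⟩
      have e : d * (y * (d * y * d⁻¹)) = (d * y * d⁻¹) * ((d * d) * y * (d * d)⁻¹) * d := by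
        group
      rw [e, h.hD2 d (hBD hd), one_mul, inv_one, mul_one, h.hXc _ hdyX _ hyX]
    rw [hbot, Subgroup.mem_bot] at hw
    exact (eq_inv_of_mul_eq_one_right hw)
  · left
    have hP : Yp ≤ invSub X b h.hXc ∧ Yp ≠ ⊥ ∧ ∀ e ∈ B, ∀ y ∈ Yp, e * y * e⁻¹ ∈ Yp := by
      refine ⟨inf_le_left.trans hY1, hbot, ?_⟩
      intro e he y hy
      rw [hmemYp] at hy ⊢
      refine ⟨hY3 e he y hy.1, ?_⟩
      have hc : d * e = e * d := h.hDc d (hBD hd) e (hBD he)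
      calc d * (e * y * e⁻¹) = (d * e) * y * e⁻¹ := by group
        _ = e * (d * y) * e⁻¹ := by rw [hc]; group
        _ = e * (y * d) * e⁻¹ := by rw [hy.2]
        _ = e * y * (e⁻¹ * (e * d) * e⁻¹) := by group
        _ = e * y * (e⁻¹ * (d * e) * e⁻¹) := by rw [hc]
        _ = e * y * e⁻¹ * d := by group
    have hcard := hmin Yp hP
    have heq : Yp = Y := Subgroup.eq_of_le_of_card_ge inf_le_left hcard
    intro y hy
    rw [← heq] at hy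
    have := ((hmemYp y).mp hy).2
    rw [this]
    group

end FF3

end Cfsg.Agent.Lib.Helper1.GNPC2
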