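import Mathlib
import Cfsg.Agent.Lib.Helper1.GNPC2.FF3

set_option autoImplicit false

namespace Cfsg.Agent.Lib.Helper1.GNPC2

section FF4

variable {V : Type*} [CommGroup V] [Finite V] {X D : Subgroup (MulAut V)} {n : ℕ}

structure EigCtx (X D B : Subgroup (MulAut V)) (n : ℕ) (b y : MulAut V) : Prop where
  h : FFHyp X D n
  hBD : B ≤ D
  hb : b ∈ B
  hy : y ∈ X
  hy1 : y ≠ 1
  hby : b * y * b⁻¹ = y⁻¹
  hdich : ∀ d ∈ B, d * y * d⁻¹ = y ∨ d * y * d⁻¹ = y⁻¹

variable {B : Subgroup (MulAut V)} {b y : MulAut V}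

def eigE (B : Subgroup (MulAut V)) (y : MulAut V) : Subgroup (MulAut V) :=
  B ⊓ Subgroup.centralizer ({y} : Set (MulAut V))

theorem mem_eigE {d : MulAut V} : d ∈ eigE B y ↔ d ∈ B ∧ d * y * d⁻¹ = y := by
  unfold eigE
  rw [Subgroup.mem_inf, Subgroup.mem_centralizer_iff]
  constructor
  · rintro ⟨h1, h2⟩
    refine ⟨h1, ?_⟩
    have := h2 y rfl
    rw [← this]
    group
  · rintro ⟨h1, h2⟩
    refine ⟨h1, ?_⟩
    intro g hg
    rw [Set.mem_singleton_iff.mp hg]
    calc y * d = (d * y * d⁻¹) * d := by rw [h2]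
      _ = d * y := by group

theorem EigCtx.inv_ne (c : EigCtx X D B n b y) : y⁻¹ ≠ y := by
  intro hinv
  apply c.hy1
  ext v
  rw [MulAut.one_apply]
  apply c.h.eq_of_sq c.hy
  have : y * y = 1 := by
    nth_rewrite 1 [← hinv]
    exact inv_mul_cancel y
  rw [this, MulAut.one_apply]

theorem EigCtx.b_not_mem (c : EigCtx X D B n b y) : b ∉ eigE B y := by
  intro hb
  have := (mem_eigE.mp hb).2
  rw [c.hby] at this
  exact c.inv_ne this

theorem EigCtx.mul_mem (c : EigCtx X D B n b y) {d : MulAut V} (hd : d ∈ B)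
    (hdE : d ∉ eigE B y) : b * d ∈ eigE B y := by
  rw [mem_eigE]
  refine ⟨B.mul_mem c.hb hd, ?_⟩
  have h1 : d * y * d⁻¹ = y⁻¹ := by
    rcases c.hdich d hd with h | h
    · exact absurd (mem_eigE.mpr ⟨hd, h⟩) hdE
    · exact h
  have e : b * d * y * (b * d)⁻¹ = b * (d * y * d⁻¹) * b⁻¹ := by group
  have e2 : b * y⁻¹ * b⁻¹ = (b * y * b⁻¹)⁻¹ := by group
  rw [e, h1, e2, c.hby, inv_inv]

theorem EigCtx.card_le (c : EigCtx X D B n b y) : Nat.card B ≤ 2 * Nat.card (eigE B y) := by
  classical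
  let f : ↥B → ↥(eigE B y) ⊕ ↥(eigE B y) := fun d =>
    if hd : (d : MulAut V) ∈ eigE B y then Sum.inl ⟨d, hd⟩
    else Sum.inr ⟨b * d, c.mul_mem d.2 hd⟩
  have hf : Function.Injective f := by
    intro d d' hdd
    by_cases hd : (d : MulAut V) ∈ eigE B y
    · by_cases hd' : (d' : MulAut V) ∈ eigE B y
      · simp only [f, dif_pos hd, dif_pos hd'] at hdd
        have h3 := Sum.inl.inj hdd
        have h4 : (d : MulAut V) = d' := Subtype.mk.inj h3
        exact Subtype.ext h4
      · simp only [f, dif_pos hd, dif_neg hd'] at hdd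
        exact absurd hdd (by simp)
    · by_cases hd' : (d' : MulAut V) ∈ eigE B y
      · simp only [f, dif_neg hd, dif_pos hd'] at hdd
        exact absurd hdd (by simp)
      · simp only [f, dif_neg hd, dif_neg hd'] at hdd
        have h3 := Sum.inr.inj hdd
        have h4 : b * (d : MulAut V) = b * d' := Subtype.mk.inj h3
        exact Subtype.ext (mul_left_cancel h4)
  have h1 := Nat.card_le_card_of_injective f hf
  rw [Nat.card_sum] at h1
  omega

theorem EigCtx.eigE_lt (c : EigCtx X D B n b y) : eigE B y < B := by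
  refine lt_of_le_of_ne inf_le_left ?_
  intro heq
  apply c.b_not_mem
  rw [heq]
  exact c.hb

omit [Finite V] in
theorem EigCtx.commSub_inv (c : EigCtx X D B n b y) :
    ∀ d ∈ B, ∀ u ∈ commSub y, d u ∈ commSub y := by
  intro d hd
  rcases c.hdich d hd with h | h
  · apply commSub_inv_of_commute
    calc d * y = (d * y * d⁻¹) * d := by group
      _ = y * d := by rw [h]
  · exact commSub_inv_of_invert h

omit [Finite V] in
theorem EigCtx.fix_trivial (c : EigCtx X D B n b y) :
    ∀ u ∈ commSub y, y u = u → u = 1 :=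
  commSub_fix_trivial c.h.hV2 c.h.hn (c.h.hXn y c.hy)

theorem EigCtx.case_big (c : EigCtx X D B n b y)
    (hoff : Nat.card V ≤ Nat.card B * Nat.card (fixSub B))
    (hmin : ∀ E : Subgroup (MulAut V), E ≤ D → E ≠ ⊥ → Nat.card E < Nat.card B →
      Nat.card E * Nat.card (fixSub E) < Nat.card V)
    (hE : eigE B y ≠ ⊥) : False := by
  set E := eigE B y with hEdef
  have hEB : E ≤ B := inf_le_left
  have hlt : Nat.card E < Nat.card B := by
    by_contra hge
    push Not at hge
    exact (ne_of_lt c.eigE_lt) (Subgroup.eq_of_le_of_card_ge hEB hge)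
  have h1 := hmin E (hEB.trans c.hBD) hE hlt
  have h2 := c.card_le
  have hle : fixSub B ≤ fixSub E := fixSub_anti hEB
  have hdvd : Nat.card (fixSub B) ∣ Nat.card (fixSub E) := Subgroup.card_dvd_of_le hle
  have hpos : 0 < Nat.card (fixSub B) := Nat.card_pos
  have heq : fixSub B = fixSub E := by
    apply Subgroup.eq_of_le_of_card_ge hle
    obtain ⟨m, hm⟩ := hdvd
    have h3 : Nat.card E * Nat.card (fixSub E) < 2 * Nat.card E * Nat.card (fixSub B) :=
      lt_of_lt_of_le h1 (hoff.trans (Nat.mul_le_mul_right _ h2))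
    have hEpos : 0 < Nat.card E := Nat.card_pos
    rw [hm] at h3 ⊢
    have h4 : m < 2 := by
      by_contra hm2
      push Not at hm2
      have : 2 * Nat.card E * Nat.card (fixSub B) ≤ Nat.card E * (Nat.card (fixSub B) * m) := by
        calc 2 * Nat.card E * Nat.card (fixSub B) = Nat.card E * (Nat.card (fixSub B) * 2) := by ring
          _ ≤ Nat.card E * (Nat.card (fixSub B) * m) :=
            Nat.mul_le_mul_left _ (Nat.mul_le_mul_left _ hm2)
      omega
    have h5 : m ≤ 1 := by omega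
    calc Nat.card (fixSub B) * m ≤ Nat.card (fixSub B) * 1 := Nat.mul_le_mul_left _ h5
      _ = Nat.card (fixSub B) := mul_one _
  have hyfix : ∀ v ∈ fixSub B, y v = v := by
    intro v hv
    have hvE : v ∈ fixSub E := hle hv
    have hyvE : y v ∈ fixSub E := by
      intro e he
      have hey : e * y * e⁻¹ = y := (mem_eigE.mp he).2
      have hey' : e * y = y * e := by
        calc e * y = (e * y * e⁻¹) * e := by group
          _ = y * e := by rw [hey]
      rw [← MulAut.mul_apply, hey', MulAut.mul_apply, hvE e he]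
    rw [← heq] at hyvE
    have h3 : b (y v) = y v := hyvE b c.hb
    have h4 : b * y = y⁻¹ * b := by
      rw [← c.hby]
      group
    have h5 : b (y v) = y⁻¹ v := by
      rw [← MulAut.mul_apply, h4, MulAut.mul_apply, hv b c.hb]
    apply c.h.eq_of_sq c.hy
    rw [MulAut.mul_apply, ← h3, h5, MulAut.apply_inv_self]
  obtain ⟨u, huU, hu1, hufix⟩ := exists_fixed_of_two_group c.h.hV2 B
    (fun d hd => c.h.hD2 d (c.hBD hd)) (commSub y) c.commSub_inv (commSub_ne_bot c.hy1)
  exact hu1 (c.fix_trivial u huU (hyfix u hufix))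

end FF4

end Cfsg.Agent.Lib.Helper1.GNPC2
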