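import Mathlib
import Cfsg.Agent.Lib.Helper1.GNPC2.FF4

set_option autoImplicit false

namespace Cfsg.Agent.Lib.Helper1.GNPC2

section FF5

variable {V : Type*} [CommGroup V] [Finite V] {X D B : Subgroup (MulAut V)} {n : ℕ}
  {b y : MulAut V}

theorem index_le_two_of_card {F : Subgroup V} (h : Nat.card V ≤ 2 * Nat.card F) : F.index ≤ 2 := by
  have h1 := F.card_mul_index
  have hpos : 0 < Nat.card F := Nat.card_pos
  by_contra hlt
  push Not at hlt
  have : Nat.card F * 3 ≤ Nat.card F * F.index := Nat.mul_le_mul_left _ hlt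
  omega

theorem EigCtx.mem_cases (c : EigCtx X D B n b y) (hE : eigE B y = ⊥) {d : MulAut V}
    (hd : d ∈ B) : d = 1 ∨ d = b := by
  by_cases hdE : d ∈ eigE B y
  · left
    rw [hE, Subgroup.mem_bot] at hdE
    exact hdE
  · right
    have := c.mul_mem hd hdE
    rw [hE, Subgroup.mem_bot] at this
    have h2 : d = b⁻¹ := eq_inv_of_mul_eq_one_right this
    rw [h2, c.h.inv_eq (c.hBD c.hb)]

theorem EigCtx.sq_fix (c : EigCtx X D B n b y) {u : V} (hbu : b u = u) (hbyu : b (y u) = y u) :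
    y u = u := by
  have h4 : b * y = y⁻¹ * b := by
    rw [← c.hby]
    group
  have h5 : b (y u) = y⁻¹ u := by
    rw [← MulAut.mul_apply, h4, MulAut.mul_apply, hbu]
  apply c.h.eq_of_sq c.hy
  rw [MulAut.mul_apply, ← hbyu, h5, MulAut.apply_inv_self]

theorem EigCtx.card_commSub_le (c : EigCtx X D B n b y)
    (hoff : Nat.card V ≤ Nat.card B * Nat.card (fixSub B)) (hE : eigE B y = ⊥) :
    Nat.card (commSub y) ≤ 4 := by
  have hB2 : Nat.card B ≤ 2 := by
    have := c.card_le
    rw [hE, Subgroup.card_bot] at this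
    exact this
  set F := fixSub B with hF
  have hVF : Nat.card V ≤ 2 * Nat.card F := hoff.trans (Nat.mul_le_mul_right _ hB2)
  set F' := F.map y.toMonoidHom with hF'
  have hcardF' : Nat.card F' = Nat.card F := Subgroup.card_map_of_injective y.injective
  have hVF' : Nat.card V ≤ 2 * Nat.card F' := by rw [hcardF']; exact hVF
  have hi1 := index_le_two_of_card hVF
  have hi2 := index_le_two_of_card hVF'
  set U := commSub y with hU
  have hT : U ⊓ F ⊓ F' = ⊥ := by
    rw [eq_bot_iff]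
    rintro u ⟨⟨huU, huF⟩, huF'⟩
    rw [Subgroup.mem_bot]
    have hbu : b u = u := huF b c.hb
    obtain ⟨w, hwF, hwu⟩ := huF'
    have hwu' : y w = u := hwu
    have hbw : b w = w := hwF b c.hb
    have hyinv : y⁻¹ u = w := by rw [← hwu', MulAut.inv_apply_self]
    have h4 : b * y⁻¹ = y * b := by
      have e : b * y⁻¹ * b⁻¹ = (b * y * b⁻¹)⁻¹ := by group
      have : b * y⁻¹ * b⁻¹ = y := by rw [e, c.hby, inv_inv]
      calc b * y⁻¹ = (b * y⁻¹ * b⁻¹) * b := by group
        _ = y * b := by rw [this]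
    have h5 : b w = y u := by
      rw [← hyinv, ← MulAut.mul_apply, h4, MulAut.mul_apply, hbu]
    have h6 : y u = w := by rw [← h5, hbw]
    have h7 : (y * y) w = w := by rw [MulAut.mul_apply, hwu', h6]
    have h8 : y w = w := c.h.eq_of_sq c.hy h7
    have h9 : u = w := by rw [← hwu', h8]
    apply c.fix_trivial u huU
    rw [h9]
    exact h8
  have h1 : (U ⊓ F ⊓ F').index ≤ (U ⊓ F).index * F'.index := Subgroup.index_inf_le
  have h2 : (U ⊓ F).index ≤ U.index * F.index := Subgroup.index_inf_le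
  rw [hT, Subgroup.index_bot] at h1
  have h3 := U.card_mul_index
  have hUi : 0 < U.index := Nat.pos_of_ne_zero U.index_ne_zero_of_finite
  have h4 : Nat.card V ≤ U.index * 4 := by
    calc Nat.card V ≤ (U ⊓ F).index * F'.index := h1
      _ ≤ (U.index * F.index) * F'.index := Nat.mul_le_mul_right _ h2
      _ ≤ (U.index * 2) * 2 := Nat.mul_le_mul (Nat.mul_le_mul_left _ hi1) hi2
      _ = U.index * 4 := by ring
  rw [← h3] at h4
  have h5 : U.index * Nat.card U ≤ U.index * 4 := by
    rw [mul_comm]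
    exact h4
  exact Nat.le_of_mul_le_mul_left h5 hUi

theorem EigCtx.case_small (c : EigCtx X D B n b y)
    (hoff : Nat.card V ≤ Nat.card B * Nat.card (fixSub B)) (hE : eigE B y = ⊥)
    {q : ℕ} [hq : Fact q.Prime] (hyq : orderOf y = q) :
    y ^ 3 = 1 ∧ ∃ U : Subgroup V, Nat.card U = 4 ∧ (∀ u ∈ U, y u ∈ U) ∧ (∀ u ∈ U, b u ∈ U) ∧
      (∀ u ∈ U, y u = u → u = 1) ∧ ∃ u ∈ U, b u ≠ u := by
  have hle := c.card_commSub_le hoff hE
  have hne : commSub y ≠ ⊥ := commSub_ne_bot c.hy1
  have hge : 1 < Nat.card (commSub y) := (Subgroup.one_lt_card_iff_ne_bot _).mpr hne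
  have hmod := card_modEq_one_of_fpf y hyq (commSub y) (commSub_self_inv y) c.fix_trivial
  have hq2 : q ≠ 2 := by
    intro h2
    have hdvd : orderOf y ∣ n := orderOf_dvd_of_pow_eq_one (c.h.hXn y c.hy)
    rw [hyq, h2] at hdvd
    obtain ⟨k, hk⟩ := c.h.hn
    omega
  have hq1 : q ≠ 1 := hq.out.ne_one
  have hcases : Nat.card (commSub y) = 4 ∧ q = 3 := by
    have h2 : Nat.card (commSub y) = 2 ∨ Nat.card (commSub y) = 3 ∨ Nat.card (commSub y) = 4 := by
      omega
    rcases h2 with h | h | h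
    · exfalso
      rw [h] at hmod
      have := (Nat.modEq_iff_dvd' (by norm_num : 1 ≤ 2)).mp hmod.symm
      have : q ∣ 1 := by simpa using this
      exact hq1 (Nat.dvd_one.mp this)
    · exfalso
      rw [h] at hmod
      have := (Nat.modEq_iff_dvd' (by norm_num : 1 ≤ 3)).mp hmod.symm
      have h2 : q ∣ 2 := by simpa using this
      exact hq2 ((Nat.prime_dvd_prime_iff_eq hq.out Nat.prime_two).mp h2)
    · refine ⟨h, ?_⟩
      rw [h] at hmod
      have := (Nat.modEq_iff_dvd' (by norm_num : 1 ≤ 4)).mp hmod.symm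
      have h3 : q ∣ 3 := by simpa using this
      exact (Nat.prime_dvd_prime_iff_eq hq.out Nat.prime_three).mp h3
  obtain ⟨hcard, hq3⟩ := hcases
  refine ⟨?_, commSub y, hcard, commSub_self_inv y, c.commSub_inv b c.hb, c.fix_trivial, ?_⟩
  · rw [← hq3, ← hyq]
    exact pow_orderOf_eq_one y
  · by_contra hall
    push Not at hall
    obtain ⟨u, hu⟩ := (Subgroup.ne_bot_iff_exists_ne_one).mp hne
    have huU : (u : V) ∈ commSub y := u.2
    have h1 : y (u : V) = u :=
      c.sq_fix (hall _ huU) (hall _ (commSub_self_inv y _ huU))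
    exact hu (Subtype.ext (c.fix_trivial _ huU h1))

end FF5

end Cfsg.Agent.Lib.Helper1.GNPC2
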