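import Mathlib
import Cfsg.Agent.Lib.Helper1.GNPC2.FF5

set_option autoImplicit false

namespace Cfsg.Agent.Lib.Helper1.GNPC2

section FF6

variable {V : Type*} [CommGroup V] [Finite V] {X D : Subgroup (MulAut V)} {n : ℕ}

theorem ff_main (h : FFHyp X D n) (hDne : D ≠ ⊥)
    (hoff : Nat.card V ≤ Nat.card D * Nat.card (fixSub D)) :
    ∃ a ∈ D, ∃ y ∈ X, y ≠ 1 ∧ y ^ 3 = 1 ∧ a * y * a⁻¹ = y⁻¹ ∧
      ∃ U : Subgroup V, Nat.card U = 4 ∧ (∀ u ∈ U, y u ∈ U) ∧ (∀ u ∈ U, a u ∈ U) ∧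
        (∀ u ∈ U, y u = u → u = 1) ∧ ∃ u ∈ U, a u ≠ u := by
  obtain ⟨B, ⟨hBD, hBne, hBoff⟩, hBmin⟩ := exists_min_card
    (fun B : Subgroup (MulAut V) => B ≤ D ∧ B ≠ ⊥ ∧
      Nat.card V ≤ Nat.card B * Nat.card (fixSub B)) ⟨D, le_refl _, hDne, hoff⟩
  have hmin : ∀ E : Subgroup (MulAut V), E ≤ D → E ≠ ⊥ → Nat.card E < Nat.card B →
      Nat.card E * Nat.card (fixSub E) < Nat.card V := by
    intro E hED hEne hlt
    by_contra hge
    push Not at hge
    have := hBmin E ⟨hED, hEne, hge⟩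
    omega
  obtain ⟨b', hb'⟩ := (Subgroup.ne_bot_iff_exists_ne_one).mp hBne
  set b : MulAut V := (b' : MulAut V) with hbdef
  have hb : b ∈ B := b'.2
  have hb1 : b ≠ 1 := fun h1 => hb' (Subtype.ext h1)
  obtain ⟨Y, hY1, hY2, hY3, hY4⟩ := exists_eigen h hBD hb hb1
  have hcardY : Nat.card Y ≠ 1 := by
    intro h1
    exact hY2 (Subgroup.eq_bot_of_card_eq Y h1)
  obtain ⟨q, hq, hqdvd⟩ := Nat.exists_prime_and_dvd hcardY
  haveI : Fact q.Prime := ⟨hq⟩
  obtain ⟨y', hy'⟩ := exists_prime_orderOf_dvd_card' q hqdvd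
  set y : MulAut V := (y' : MulAut V) with hydef
  have hyY : y ∈ Y := y'.2
  have hyq : orderOf y = q := by
    rw [← hy']
    exact Subgroup.orderOf_coe y'
  have hy1 : y ≠ 1 := by
    intro h1
    rw [h1, orderOf_one] at hyq
    exact hq.ne_one hyq.symm
  have c : EigCtx X D B n b y :=
    { h := h
      hBD := hBD
      hb := hb
      hy := (hY1 hyY).1
      hy1 := hy1
      hby := (hY1 hyY).2
      hdich := by
        intro d hd
        rcases hY4 d hd with h1 | h1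
        · exact Or.inl (h1 y hyY)
        · exact Or.inr (h1 y hyY) }
  by_cases hE : eigE B y = ⊥
  · obtain ⟨h3, U, hU⟩ := c.case_small hBoff hE hyq
    exact ⟨b, hBD hb, y, c.hy, hy1, h3, c.hby, U, hU⟩
  · exact absurd (c.case_big hBoff hmin hE) id

end FF6

end Cfsg.Agent.Lib.Helper1.GNPC2
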