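import Mathlib
import Cfsg.Prelude.Def_LocalEven
import Cfsg.Agent.S5299

set_option autoImplicit false

namespace Cfsg.Agent.Lib.Helper1.GNPC2

section S4Rec

variable {G : Type*} [Group G]

def conjAct (S U : Subgroup G) (hS : S ≤ Subgroup.normalizer (U : Set G)) : ↥S →* MulAut ↥U where
  toFun s :=
    { toFun := fun u => ⟨s * u * (s : G)⁻¹, (Subgroup.mem_normalizer_iff.mp (hS s.2) u).mp u.2⟩
      invFun := fun u => ⟨(s : G)⁻¹ * u * s, by
        have h := (Subgroup.mem_normalizer_iff.mp (Subgroup.inv_mem _ (hS s.2)) u).mp u.2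
        rwa [inv_inv] at h⟩
      left_inv := by
        intro u
        apply Subtype.ext
        show (s : G)⁻¹ * (s * u * (s : G)⁻¹) * s = u
        group
      right_inv := by
        intro u
        apply Subtype.ext
        show (s : G) * ((s : G)⁻¹ * u * s) * (s : G)⁻¹ = u
        group
      map_mul' := by
        intro u w
        apply Subtype.ext
        show (s : G) * (u * w) * (s : G)⁻¹ = (s * u * (s : G)⁻¹) * (s * w * (s : G)⁻¹)
        group }
  map_one' := by
    ext u
    show (1 : G) * u * (1 : G)⁻¹ = u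
    group
  map_mul' := by
    intro s s'
    ext u
    show ((s : G) * s') * u * ((s : G) * s')⁻¹ = s * (s' * u * (s' : G)⁻¹) * (s : G)⁻¹
    group

theorem conjAct_apply (S U : Subgroup G) (hS : S ≤ Subgroup.normalizer (U : Set G)) (s : S)
    (u : U) : ((conjAct S U hS s u : U) : G) = s * u * (s : G)⁻¹ := rfl

def sdInj (S U : Subgroup G) (hS : S ≤ Subgroup.normalizer (U : Set G)) :
    ↥U ⋊[conjAct S U hS] ↥S →* G :=
  SemidirectProduct.lift U.subtype S.subtype (by
    intro s
    ext u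
    show ((conjAct S U hS s u : U) : G) = (s : G) * u * (s : G)⁻¹
    rfl)

theorem sdInj_apply (S U : Subgroup G) (hS : S ≤ Subgroup.normalizer (U : Set G))
    (x : ↥U ⋊[conjAct S U hS] ↥S) : sdInj S U hS x = (x.left : G) * (x.right : G) := by
  conv_lhs => rw [← SemidirectProduct.inl_left_mul_inr_right x]
  unfold sdInj
  rw [map_mul, SemidirectProduct.lift_inl, SemidirectProduct.lift_inr]
  rfl

theorem sdInj_injective (S U : Subgroup G) (hS : S ≤ Subgroup.normalizer (U : Set G))
    (hdisj : ∀ g : G, g ∈ U → g ∈ S → g = 1) : Function.Injective (sdInj S U hS) := by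
  rw [injective_iff_map_eq_one]
  intro x hx
  rw [sdInj_apply] at hx
  have h1 : (x.right : G) = (x.left : G)⁻¹ := eq_inv_of_mul_eq_one_right hx
  have h2 : (x.right : G) = 1 := hdisj _ (by rw [h1]; exact U.inv_mem x.left.2) x.right.2
  have h3 : (x.left : G) = 1 := by
    rw [h2, mul_one] at hx
    exact hx
  apply SemidirectProduct.ext
  · exact Subtype.ext h3
  · exact Subtype.ext h2

def sdPerm (S U : Subgroup G) (hS : S ≤ Subgroup.normalizer (U : Set G)) :
    ↥U ⋊[conjAct S U hS] ↥S →* Equiv.Perm ↥U :=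
  SemidirectProduct.lift (MulAction.toPermHom ↥U ↥U)
    ((MulAut.toPerm ↥U).comp (conjAct S U hS)) (by
    intro s
    ext u w
    show ((conjAct S U hS s u * w : U) : G) =
      ((conjAct S U hS s) (u * ((conjAct S U hS s)⁻¹ w)) : U)
    rw [map_mul, MulAut.apply_inv_self])

theorem sdPerm_apply (S U : Subgroup G) (hS : S ≤ Subgroup.normalizer (U : Set G))
    (x : ↥U ⋊[conjAct S U hS] ↥S) (w : U) :
    sdPerm S U hS x w = x.left * conjAct S U hS x.right w := by
  conv_lhs => rw [← SemidirectProduct.inl_left_mul_inr_right x]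
  unfold sdPerm
  rw [map_mul, SemidirectProduct.lift_inl, SemidirectProduct.lift_inr]
  rfl

end S4Rec

end Cfsg.Agent.Lib.Helper1.GNPC2

namespace Cfsg.Agent.Lib.Helper1.GNPC2

section S4Rec2

variable {G : Type*} [Group G] [Finite G]

theorem sdPerm_ker_card_le (S U : Subgroup G) (hS : S ≤ Subgroup.normalizer (U : Set G)) :
    Nat.card (sdPerm S U hS).ker ≤ Nat.card (conjAct S U hS).ker := by
  have hker : ∀ x : ↥U ⋊[conjAct S U hS] ↥S, x ∈ (sdPerm S U hS).ker →
      x.left = 1 ∧ x.right ∈ (conjAct S U hS).ker := by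
    intro x hx
    rw [MonoidHom.mem_ker] at hx
    have h1 : ∀ w : U, x.left * conjAct S U hS x.right w = w := by
      intro w
      rw [← sdPerm_apply, hx]
      rfl
    have hl : x.left = 1 := by
      have := h1 1
      rwa [map_one, mul_one] at this
    refine ⟨hl, ?_⟩
    rw [MonoidHom.mem_ker]
    ext w
    have := h1 w
    rw [hl, one_mul] at this
    rw [this]
    rfl
  let f : ↥(sdPerm S U hS).ker → ↥(conjAct S U hS).ker := fun x => ⟨x.1.right, (hker x.1 x.2).2⟩
  apply Nat.card_le_card_of_injective f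
  intro x x' hxx
  apply Subtype.ext
  apply SemidirectProduct.ext
  · rw [(hker x.1 x.2).1, (hker x'.1 x'.2).1]
  · exact congrArg Subtype.val hxx

theorem s4_involved (U : Subgroup G) (hU : Nat.card U = 4) (y t : G)
    (hyU : y ∈ Subgroup.normalizer (U : Set G)) (hy3 : y ^ 3 = 1)
    (hfix : ∀ u ∈ U, y * u * y⁻¹ = u → u = 1)
    (htU : t ∈ Subgroup.normalizer (U : Set G))
    (hty : t ∈ Subgroup.normalizer ((Subgroup.zpowers y : Subgroup G) : Set G))
    (htne : ∃ u ∈ U, t * u * t⁻¹ ≠ u)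
    (ht2 : ∀ u ∈ U, (t * t) * u * (t * t)⁻¹ = u) :
    Cfsg.Involves (Equiv.Perm (Fin 4)) G := by
  set S := Subgroup.normalizer (U : Set G) ⊓
    Subgroup.normalizer ((Subgroup.zpowers y : Subgroup G) : Set G) with hSdef
  have hS : S ≤ Subgroup.normalizer (U : Set G) := inf_le_left
  have hyS : y ∈ S := ⟨hyU, Subgroup.le_normalizer (Subgroup.mem_zpowers y)⟩
  have htS : t ∈ S := ⟨htU, hty⟩
  have hdisj : ∀ g : G, g ∈ U → g ∈ S → g = 1 := by
    intro g hgU hgS
    have h1 : g * y * g⁻¹ ∈ Subgroup.zpowers y :=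
      (Subgroup.mem_normalizer_iff.mp hgS.2 y).mp (Subgroup.mem_zpowers y)
    have hc1 : g * y * g⁻¹ * y⁻¹ ∈ Subgroup.zpowers y :=
      Subgroup.mul_mem _ h1 (Subgroup.inv_mem _ (Subgroup.mem_zpowers y))
    have hc2 : g * y * g⁻¹ * y⁻¹ ∈ U := by
      have h2 : y * g⁻¹ * y⁻¹ ∈ U := (Subgroup.mem_normalizer_iff.mp hyU g⁻¹).mp (U.inv_mem hgU)
      have e : g * y * g⁻¹ * y⁻¹ = g * (y * g⁻¹ * y⁻¹) := by group
      rw [e]
      exact U.mul_mem hgU h2
    have hc3 : y * (g * y * g⁻¹ * y⁻¹) * y⁻¹ = g * y * g⁻¹ * y⁻¹ := by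
      obtain ⟨k, hk⟩ := Subgroup.mem_zpowers_iff.mp hc1
      rw [← hk]
      have : y * y ^ k = y ^ k * y := by
        rw [← zpow_one_add, ← zpow_add_one, add_comm]
      rw [this]
      group
    have hc4 := hfix _ hc2 hc3
    have h5 : g * y * g⁻¹ = y := by
      have := mul_inv_eq_one.mp hc4
      exact this
    apply hfix g hgU
    calc y * g * y⁻¹ = (g * y * g⁻¹) * g * y⁻¹ := by rw [h5]
      _ = g := by group
  set φ := conjAct S U hS with hφ
  set ρ := sdPerm S U hS with hρ
  set C := φ.ker with hC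
  have hkerle : Nat.card ρ.ker ≤ Nat.card C := sdPerm_ker_card_le S U hS
  obtain ⟨u₀, hu₀⟩ : ∃ u : U, u ≠ 1 := by
    haveI : Nontrivial U := by
      rw [← Finite.one_lt_card_iff_nontrivial, hU]
      norm_num
    exact exists_ne 1
  haveI : Fact (Nat.Prime 3) := ⟨Nat.prime_three⟩
  haveI : Fact (Nat.Prime 2) := ⟨Nat.prime_two⟩
  have h3 : 3 ∣ C.index := by
    have ho : orderOf (QuotientGroup.mk' C ⟨y, hyS⟩) = 3 := by
      apply orderOf_eq_prime
      · rw [← map_pow]
        have : (⟨y, hyS⟩ : S) ^ 3 = 1 := by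
          apply Subtype.ext
          rw [Subgroup.coe_pow, Subgroup.coe_one]
          exact hy3
        rw [this, map_one]
      · intro h1
        have h2 : (⟨y, hyS⟩ : S) ∈ C := (QuotientGroup.eq_one_iff _).mp h1
        rw [hC, MonoidHom.mem_ker] at h2
        have h4 : φ ⟨y, hyS⟩ u₀ = u₀ := by rw [h2]; rfl
        have h5 : y * (u₀ : G) * y⁻¹ = u₀ := congrArg Subtype.val h4
        exact hu₀ (Subtype.ext (hfix _ u₀.2 h5))
    rw [Subgroup.index_eq_card, ← ho]
    exact orderOf_dvd_natCard _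
  have h2 : 2 ∣ C.index := by
    have ho : orderOf (QuotientGroup.mk' C ⟨t, htS⟩) = 2 := by
      apply orderOf_eq_prime
      · rw [← map_pow]
        have : (⟨t, htS⟩ : S) ^ 2 ∈ C := by
          rw [hC, MonoidHom.mem_ker]
          ext w
          show ((((⟨t, htS⟩ : S) ^ 2 : S) : G)) * w * ((((⟨t, htS⟩ : S) ^ 2 : S) : G))⁻¹ = w
          rw [Subgroup.coe_pow, pow_two]
          exact ht2 w w.2
        exact (QuotientGroup.eq_one_iff _).mpr this
      · intro h1
        have h2 : (⟨t, htS⟩ : S) ∈ C := (QuotientGroup.eq_one_iff _).mp h1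
        rw [hC, MonoidHom.mem_ker] at h2
        obtain ⟨u, huU, hne⟩ := htne
        have h4 : φ ⟨t, htS⟩ ⟨u, huU⟩ = ⟨u, huU⟩ := by rw [h2]; rfl
        exact hne (congrArg Subtype.val h4)
    rw [Subgroup.index_eq_card, ← ho]
    exact orderOf_dvd_natCard _
  have h6 : 6 ∣ C.index :=
    Nat.Coprime.mul_dvd_of_dvd_of_dvd (by norm_num : Nat.Coprime 2 3) h2 h3
  have hidx : 6 ≤ C.index :=
    Nat.le_of_dvd (Nat.pos_of_ne_zero C.index_ne_zero_of_finite) h6
  have hcard1 : Nat.card (↥U ⋊[φ] ↥S) = 4 * Nat.card S := by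
    rw [SemidirectProduct.card, hU]
  have hcard2 : Nat.card C * C.index = Nat.card S := C.card_mul_index
  have hcard3 : Nat.card ρ.ker * Nat.card ρ.range = Nat.card (↥U ⋊[φ] ↥S) := by
    rw [← Subgroup.index_ker]
    exact ρ.ker.card_mul_index
  have hCpos : 0 < Nat.card C := Nat.card_pos
  have hrange : 24 ≤ Nat.card ρ.range := by
    have h7 : Nat.card C * (4 * C.index) ≤ Nat.card C * Nat.card ρ.range := by
      calc Nat.card C * (4 * C.index) = 4 * (Nat.card C * C.index) := by ring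
        _ = Nat.card ρ.ker * Nat.card ρ.range := by rw [hcard2, ← hcard1, hcard3]
        _ ≤ Nat.card C * Nat.card ρ.range := Nat.mul_le_mul_right _ hkerle
    have h8 := Nat.le_of_mul_le_mul_left h7 hCpos
    omega
  have hperm : Nat.card (Equiv.Perm ↥U) = 24 := by
    rw [Nat.card_perm, hU]
    rfl
  have htop : ρ.range = ⊤ := by
    apply Subgroup.eq_top_of_le_card
    rw [hperm]
    exact hrange
  have hsurj : Function.Surjective ρ := MonoidHom.range_eq_top.mp htop
  have e : ↥U ≃ Fin 4 := Finite.equivFinOfCardEq hU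
  apply Cfsg.Agent.S5299.involves_of_inj_surj (sdInj S U hS) (sdInj_injective S U hS hdisj)
    ((Equiv.permCongrHom e).toMonoidHom.comp ρ)
  exact (Equiv.permCongrHom e).surjective.comp hsurj

end S4Rec2

end Cfsg.Agent.Lib.Helper1.GNPC2
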