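import Mathlib
import Cfsg.Agent.Lib.Helper1.GNPC2.TJA

set_option autoImplicit false

namespace Cfsg.Agent.Lib.Helper1.GNPC2

open Cfsg Cfsg.Agent.S5306 Cfsg.Agent.Lib.Helper1.TNPC Cfsg.Agent.Lib.Helper1.GNPC
  Cfsg.Agent.Lib.Helper9

universe u

section ZC

variable {G : Type*} [Group G] [Finite G] {p : ℕ} [hp : Fact p.Prime]

theorem zc_transfer {G' : Type*} [Group G'] [Finite G'] (f : G' →* G)
    (hf : Function.Injective f) (R : Subgroup G')
    (h2 : HasNormalPComplement p ↥(Subgroup.centralizer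
      (((R.map f) ⊓ Subgroup.centralizer ((R.map f : Subgroup G) : Set G) : Subgroup G) : Set G))) :
    HasNormalPComplement p ↥(Subgroup.centralizer
      ((R ⊓ Subgroup.centralizer (R : Set G') : Subgroup G') : Set G')) := by
  apply npc_of_map_injective f hf
  refine npc_of_le ?_ h2
  rintro _ ⟨x, hx, rfl⟩
  have hx := Subgroup.mem_centralizer_iff.mp hx
  rw [Subgroup.mem_centralizer_iff]
  intro z hz
  obtain ⟨⟨z', hz', rfl⟩, hzc⟩ := hz
  have hzc' := Subgroup.mem_centralizer_iff.mp hzc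
  have hz'Z : z' ∈ R ⊓ Subgroup.centralizer (R : Set G') := by
    refine ⟨hz', ?_⟩
    show z' ∈ Subgroup.centralizer (R : Set G')
    rw [Subgroup.mem_centralizer_iff]
    intro r hr
    apply hf
    rw [map_mul, map_mul]
    exact hzc' (f r) ⟨r, hr, rfl⟩
  have := hx z' hz'Z
  rw [← map_mul, ← map_mul, this]

theorem zc_quotient (T : Subgroup G) [T.Normal] (hT : (Nat.card T).Coprime p)
    (P : Subgroup G) (hP : IsPGroup p P)
    (h2 : HasNormalPComplement p ↥(Subgroup.centralizer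
      ((P ⊓ Subgroup.centralizer (P : Set G) : Subgroup G) : Set G))) :
    HasNormalPComplement p ↥(Subgroup.centralizer
      (((P.map (QuotientGroup.mk' T)) ⊓ Subgroup.centralizer
        ((P.map (QuotientGroup.mk' T) : Subgroup (G ⧸ T)) : Set (G ⧸ T)) :
        Subgroup (G ⧸ T)) : Set (G ⧸ T))) := by
  refine npc_of_le ?_ (npc_map (QuotientGroup.mk' T) _ h2)
  set Z := P ⊓ Subgroup.centralizer (P : Set G) with hZ
  have hZp : IsPGroup p Z := hP.to_le inf_le_left
  intro gb hgb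
  rw [Subgroup.mem_centralizer_iff] at hgb
  have hZmap : ∀ z ∈ Z, QuotientGroup.mk' T z ∈
      P.map (QuotientGroup.mk' T) ⊓ Subgroup.centralizer ((P.map (QuotientGroup.mk' T) : Subgroup (G ⧸ T)) : Set (G ⧸ T)) := by
    intro z hz
    refine ⟨⟨z, hz.1, rfl⟩, ?_⟩
    show _ ∈ Subgroup.centralizer _
    rw [Subgroup.mem_centralizer_iff]
    rintro _ ⟨u, hu, rfl⟩
    rw [← map_mul, ← map_mul, (Subgroup.mem_centralizer_iff.mp hz.2) u hu]
  have hgn : gb ∈ Subgroup.normalizer ((Z.map (QuotientGroup.mk' T) : Subgroup (G ⧸ T)) : Set (G ⧸ T)) := by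
    apply Subgroup.centralizer_le_normalizer
    rw [Subgroup.mem_centralizer_iff]
    rintro _ ⟨z, hz, rfl⟩
    exact hgb _ (hZmap z hz)
  rw [← Cfsg.Agent.Lib.Helper10.map_normalizer_eq_of_coprime p T hT Z hZp] at hgn
  obtain ⟨n, hn, rfl⟩ := hgn
  refine ⟨n, ?_, rfl⟩
  show n ∈ Subgroup.centralizer (Z : Set G)
  rw [Subgroup.mem_centralizer_iff]
  intro z hz
  have hc1 : n * z * n⁻¹ ∈ Z := (Subgroup.mem_normalizer_iff.mp hn z).mp hz
  have hc : n * z * n⁻¹ * z⁻¹ ∈ Z := mul_mem hc1 (inv_mem hz)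
  have hcT : n * z * n⁻¹ * z⁻¹ ∈ T := by
    rw [← QuotientGroup.eq_one_iff]
    have := hgb _ (hZmap z hz)
    have e : ((n * z * n⁻¹ * z⁻¹ : G) : G ⧸ T) = (QuotientGroup.mk' T n) * (QuotientGroup.mk' T z) * (QuotientGroup.mk' T n)⁻¹ * (QuotientGroup.mk' T z)⁻¹ := by
      simp
    rw [e, ← this]
    group
  have hcop : (Nat.card T).Coprime (Nat.card Z) := by
    obtain ⟨k, hk⟩ := IsPGroup.iff_card.mp hZp
    rw [hk]
    exact Nat.Coprime.pow_right k hT
  have h3 : T ⊓ Z = ⊥ := (Subgroup.disjoint_of_coprime_natCard hcop).eq_bot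
  have h4 : n * z * n⁻¹ * z⁻¹ ∈ T ⊓ Z := ⟨hcT, hc⟩
  rw [h3, Subgroup.mem_bot] at h4
  have : n * z * n⁻¹ = z := by
    have := mul_inv_eq_one.mp h4
    exact this
  calc z * n = (n * z * n⁻¹) * n := by rw [this]
    _ = n * z := by group

end ZC

section Spec

def tjSpec (p : ℕ) [hp : Fact p.Prime] : HypSpecG.{u} p where
  Good G _ := p ≠ 2 ∨ ¬ Cfsg.Involves (Equiv.Perm (Fin 4)) G
  Hy G _ R :=
    HasNormalPComplement p ↥(Subgroup.centralizer
      ((R ⊓ Subgroup.centralizer (R : Set G) : Subgroup G) : Set G)) ∧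
    HasNormalPComplement p ↥(Subgroup.normalizer (Cfsg.thompsonSubgroupAOf R : Set G))
  good_inj := by
    intro G G' _ _ _ _ f hf h
    exact h.imp id (fun hn hi => hn (involves_of_injective f hf hi))
  good_quot := by
    intro G _ _ N _ h
    exact h.imp id (fun hn hi => hn (involves_of_quotient' N hi))
  transfer := by
    intro G G' _ _ _ _ f hf R _ h
    refine ⟨zc_transfer f hf R h.1, ?_⟩
    apply npc_of_map_injective f hf
    refine npc_of_le ?_ h.2
    rw [tja_map f hf.injOn]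
    exact Subgroup.le_normalizer_map f
  quotient := by
    intro G _ _ T _ hT P hP h
    refine ⟨zc_quotient T hT P hP h.1, ?_⟩
    have hinj := injOn_mk_of_coprime T hT P hP
    have e : Subgroup.normalizer
        ((Cfsg.thompsonSubgroupAOf (P.map (QuotientGroup.mk' T)) : Subgroup (G ⧸ T)) :
          Set (G ⧸ T)) =
        (Subgroup.normalizer (Cfsg.thompsonSubgroupAOf P : Set G)).map (QuotientGroup.mk' T) := by
      rw [tja_map _ hinj]
      exact (Cfsg.Agent.Lib.Helper10.map_normalizer_eq_of_coprime p T hT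
        (Cfsg.thompsonSubgroupAOf P) (hP.to_le (tja_le P))).symm
    rw [e]
    exact npc_map _ _ h.2
  of_local := by
    intro G _ _ _ R hR hne h
    constructor
    · refine npc_of_le (Subgroup.centralizer_le_normalizer _) ?_
      exact h _ inf_le_left (Z_ne_bot hR hne) (normalizer_le_normalizer_Z R)
    · exact h (Cfsg.thompsonSubgroupAOf R) (tja_le R) (tja_ne_bot hR hne)
        (normalizer_le_normalizer_tja R)
  top := by
    intro G _ _ _ P _ hPn h
    have h1 : Subgroup.normalizer (Cfsg.thompsonSubgroupAOf P : Set G) = ⊤ := by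
      rw [eq_top_iff, ← Subgroup.normalizer_eq_top_iff.mpr hPn]
      exact normalizer_le_normalizer_tja P
    exact npc_of_eq_top h1 h.2

end Spec

end Cfsg.Agent.Lib.Helper1.GNPC2
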