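import Mathlib
import Cfsg.Agent.Lib.Helper1.GNPC2.TJSpec

set_option autoImplicit false

namespace Cfsg.Agent.Lib.Helper1.GNPC2

open Cfsg Cfsg.Agent.S5306 Cfsg.Agent.Lib.Helper1.TNPC Cfsg.Agent.Lib.Helper1.GNPC
  Cfsg.Agent.Lib.Helper9

section TJQuad

variable {G : Type*} [Group G]

theorem comm_sup {A B : Subgroup G} (hA : IsMulCommutative A) (hB : IsMulCommutative B)
    (hAB : B ≤ Subgroup.centralizer (A : Set G)) : IsMulCommutative ↥(A ⊔ B) := by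
  rw [Subgroup.sup_eq_closure]
  apply Subgroup.isMulCommutative_closure
  rintro y (hy | hy) z (hz | hz)
  · exact setLike_mul_comm hy hz
  · exact hAB hz y hy
  · exact (hAB hy z hz).symm
  · exact setLike_mul_comm hy hz

theorem comm_replacement [Finite G] {p : ℕ} [Fact p.Prime] {P A V : Subgroup G}
    (hP : IsPGroup p P) (hA : A ∈ famQ (fun A : Subgroup G => IsMulCommutative A) P)
    (hV : IsMulCommutative V) (hVP : V ≤ P)
    (hAV : A ≤ Subgroup.normalizer (V : Set G)) (hVA : ¬ V ≤ Subgroup.normalizer (A : Set G)) :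
    ∃ A' ∈ famQ (fun A : Subgroup G => IsMulCommutative A) P,
      A ⊓ V < A' ⊓ V ∧ A' ≤ Subgroup.normalizer (A : Set G) := by
  obtain ⟨hAP, hAc, hAmax⟩ := hA
  have hT : IsPGroup p ↥(A ⊔ V) := hP.to_le (sup_le hAP hVP)
  obtain ⟨x, hxV, hxA, hxN⟩ := exists_thompson_element' hT hAV hVA
  obtain ⟨M, K, hMV, hKA, hMK, hcard, hlt, hN⟩ := repl_core hAc hV hAV x hxV hxN hxA
  have hMc : IsMulCommutative M := by
    refine ⟨⟨?_⟩⟩
    rintro ⟨a, ha⟩ ⟨b, hb⟩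
    apply Subtype.ext
    exact setLike_mul_comm (s := V) (hMV ha) (hMV hb)
  have hKc : IsMulCommutative K := by
    refine ⟨⟨?_⟩⟩
    rintro ⟨a, ha⟩ ⟨b, hb⟩
    apply Subtype.ext
    exact setLike_mul_comm (s := A) (hKA ha) (hKA hb)
  have hsup : IsMulCommutative ↥(M ⊔ K) := by
    rw [sup_comm]
    exact comm_sup hKc hMc hMK
  have hle : M ⊔ K ≤ P := sup_le (hMV.trans hVP) (hKA.trans hAP)
  refine ⟨M ⊔ K, ⟨hle, hsup, ?_⟩, hlt, hN⟩
  intro B hBP hBc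
  exact (hAmax B hBP hBc).trans hcard

theorem exists_quadratic_comm [Finite G] {p : ℕ} [Fact p.Prime] {P V H : Subgroup G}
    (hP : IsPGroup p P) (hV : IsMulCommutative V) (hVP : V ≤ P)
    (hPV : P ≤ Subgroup.normalizer (V : Set G)) (hHV : H ≤ Subgroup.centralizer (V : Set G))
    (hex : ∃ A ∈ famQ (fun A : Subgroup G => IsMulCommutative A) P, ¬ A ≤ H) :
    ∃ A ∈ famQ (fun A : Subgroup G => IsMulCommutative A) P,
      ¬ A ≤ H ∧ V ≤ Subgroup.normalizer (A : Set G) := by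
  let T := {A : Subgroup G // A ∈ famQ (fun A : Subgroup G => IsMulCommutative A) P ∧ ¬ A ≤ H}
  obtain ⟨A₀, hA₀, hA₀H⟩ := hex
  haveI : Nonempty T := ⟨⟨A₀, hA₀, hA₀H⟩⟩
  obtain ⟨A, hAmax⟩ := Finite.exists_max (fun A : T => Nat.card ↥((A.1 : Subgroup G) ⊓ V))
  refine ⟨A.1, A.2.1, A.2.2, ?_⟩
  by_contra hVA
  obtain ⟨A', hA', hlt, hA'N⟩ := comm_replacement hP A.2.1 hV hVP (A.2.1.1.trans hPV) hVA
  by_cases hA'H : A' ≤ H
  · have hVc : V ≤ Subgroup.centralizer (A' : Set G) :=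
      Subgroup.le_centralizer_iff.mp (hA'H.trans hHV)
    have hc : IsMulCommutative ↥(A' ⊔ V) := comm_sup hA'.2.1 hV hVc
    have hcard := hA'.2.2 (A' ⊔ V) (sup_le hA'.1 hVP) hc
    have heq : A' = A' ⊔ V := Subgroup.eq_of_le_of_card_ge le_sup_left hcard
    have hVA' : V ≤ A' := by rw [heq]; exact le_sup_right
    exact hVA (hVA'.trans hA'N)
  · have h1 := hAmax ⟨A', hA', hA'H⟩
    have h2 := Cfsg.Agent.Lib.Helper1.TNPC.card_lt_of_lt' hlt
    exact absurd h1 (not_le.mpr h2)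

end TJQuad

end Cfsg.Agent.Lib.Helper1.GNPC2
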