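import Mathlib
import Cfsg.Agent.Lib.Helper1.GNPC2.TJQuad

set_option autoImplicit false

namespace Cfsg.Agent.Lib.Helper1.GNPC2

open Cfsg Cfsg.Agent.S5306 Cfsg.Agent.Lib.Helper1.TNPC Cfsg.Agent.Lib.Helper1.GNPC
  Cfsg.Agent.Lib.Helper9

universe u

section TJFinal1

variable {G : Type u} [Group G] [Finite G] {p : ℕ} [hp : Fact p.Prime] {P : Sylow p G}
  {H : Subgroup G} [hHn : H.Normal] {Kb : Subgroup (G ⧸ H)}

theorem cz_isPGroup (c : FinalCfg p G P H Kb)
    (hC : HasNormalPComplement p ↥(Subgroup.centralizer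
      (((P : Subgroup G) ⊓ Subgroup.centralizer ((P : Subgroup G) : Set G) : Subgroup G) : Set G))) :
    IsPGroup p ↥(Subgroup.centralizer
      (((P : Subgroup G) ⊓ Subgroup.centralizer ((P : Subgroup G) : Set G) : Subgroup G) : Set G)) := by
  set ZP := (P : Subgroup G) ⊓ Subgroup.centralizer ((P : Subgroup G) : Set G) with hZP
  have hHM : H ≤ Subgroup.centralizer (ZP : Set G) := by
    intro h hh
    rw [Subgroup.mem_centralizer_iff]
    intro z hz
    exact (Subgroup.mem_centralizer_iff.mp hz.2 h (c.hHP hh)).symm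
  obtain ⟨N₁, hN₁n, hN₁c, j, hj⟩ := npc_iff.mp hC
  haveI := hN₁n
  have hbot : N₁ = ⊥ := coprime_normal_eq_bot c.hHp c.cent hHM N₁ hN₁c
  rw [hbot, Subgroup.index_bot] at hj
  exact IsPGroup.of_card hj

theorem final_of_tja_le (c : FinalCfg p G P H Kb)
    (hJ : Cfsg.thompsonSubgroupAOf (P : Subgroup G) ≤ H)
    (hN : HasNormalPComplement p
      ↥(Subgroup.normalizer (Cfsg.thompsonSubgroupAOf (P : Subgroup G) : Set G))) :
    HasNormalPComplement p G := by
  have hall : ∀ A ∈ famQ (fun A : Subgroup G => IsMulCommutative A) (P : Subgroup G), A ≤ H := by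
    intro A hA
    refine le_trans ?_ hJ
    rw [thompsonSubgroupAOf_eq_sSup]
    exact le_sSup hA
  have heq := tja_eq_of_forall_le c.hHP hall
  have h1 : Subgroup.normalizer (Cfsg.thompsonSubgroupAOf (P : Subgroup G) : Set G) = ⊤ := by
    rw [← heq, eq_top_iff, ← Subgroup.normalizer_eq_top_iff.mpr hHn]
    exact normalizer_le_normalizer_tja H
  exact npc_of_eq_top h1 hN

theorem tj_final_odd (hp2 : p ≠ 2) (c : FinalCfg p G P H Kb)
    (h : (tjSpec.{u} p).Hy G (P : Subgroup G)) : HasNormalPComplement p G := by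
  have hchar : (Cfsg.centerThompsonAOf (P : Subgroup G)).Characteristic := by
    rw [← zfam_eq_centerThompsonAOf]
    refine zfam_characteristic _ P (zjhyp_comm hp2 P) ?_
      (fun V _ hV a ha hq => c.stable hp2 V hV a ha hq)
    rw [c.pCore_eq]
    exact c.cent
  haveI hn : (Cfsg.centerThompsonAOf (P : Subgroup G)).Normal := inferInstance
  set ZJ := Cfsg.centerThompsonAOf (P : Subgroup G) with hZJ
  set C := Subgroup.centralizer (ZJ : Set G) with hCdef
  haveI hCn : C.Normal := Subgroup.normal_centralizer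
  have hCle : C ≤ Subgroup.centralizer
      (((P : Subgroup G) ⊓ Subgroup.centralizer ((P : Subgroup G) : Set G) : Subgroup G) : Set G) :=
    Subgroup.centralizer_le (SetLike.coe_subset_coe.mpr (center_le_ctA (P : Subgroup G)))
  have hCp : IsPGroup p C := by
    have h1 := cz_isPGroup c h.1
    intro x
    obtain ⟨k, hk⟩ := h1 ⟨x.1, hCle x.2⟩
    refine ⟨k, ?_⟩
    apply Subtype.ext
    have := congrArg Subtype.val hk
    rw [Subgroup.coe_pow] at this ⊢
    exact this
  have hCH : C ≤ H := c.npl C hCp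
  apply final_of_tja_le c ?_ h.2
  refine le_trans ?_ hCH
  intro x hx
  show x ∈ Subgroup.centralizer (ZJ : Set G)
  rw [Subgroup.mem_centralizer_iff]
  intro z hz
  have hz2 : z ∈ Subgroup.centralizer (Cfsg.thompsonSubgroupAOf (P : Subgroup G) : Set G) := by
    have : z ∈ Cfsg.thompsonSubgroupAOf (P : Subgroup G) ⊓
        Subgroup.centralizer (Cfsg.thompsonSubgroupAOf (P : Subgroup G) : Set G) := hz
    exact this.2
  exact (Subgroup.mem_centralizer_iff.mp hz2 x hx).symm

theorem centV_le' (c : FinalCfg p G P H Kb)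
    (hC : HasNormalPComplement p ↥(Subgroup.centralizer
      (((P : Subgroup G) ⊓ Subgroup.centralizer ((P : Subgroup G) : Set G) : Subgroup G) : Set G))) :
    Subgroup.centralizer (omegaZ p H : Set G) ≤ H := by
  have hCH := c.cent
  haveI : (omegaZ p H).Normal := omegaZ_normal H
  haveI : (Subgroup.centralizer (omegaZ p H : Set G)).Normal := Subgroup.normal_centralizer
  apply c.npl _ (isPGroup_of_coprime_trivial _ ?_)
  intro y hy hcop
  have hy' := Subgroup.mem_centralizer_iff.mp hy
  set Z := H ⊓ Subgroup.centralizer (H : Set G) with hZ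
  have hZn : Z.Normal := inferInstance
  have hyZ : ∀ z ∈ Z, y * z * y⁻¹ = z := by
    intro z hz
    obtain ⟨j, hj⟩ := c.hHp ⟨z, hz.1⟩
    have hj' : z ^ (p ^ j) = 1 := by
      have := congrArg Subtype.val hj
      rwa [Subgroup.coe_pow] at this
    refine omega_centralizes hcop (Z := Z) ?_ y (fun z hz => hZn.conj_mem z hz y)
      (pow_orderOf_eq_one y) ?_ j z hz hj'
    · intro a ha b hb
      exact Subgroup.mem_centralizer_iff.mp hb.2 a ha.1
    · intro z hz hzp
      have hzV : z ∈ omegaZ p H := ⟨hz.1, hz.2, hzp⟩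
      have := hy' z hzV
      rw [← this]
      group
  set ZP := (P : Subgroup G) ⊓ Subgroup.centralizer ((P : Subgroup G) : Set G) with hZP
  have hZPZ : ZP ≤ Z := by
    intro z hz
    have h1 : z ∈ Subgroup.centralizer (H : Set G) :=
      Subgroup.centralizer_le (SetLike.coe_subset_coe.mpr c.hHP) hz.2
    exact ⟨hCH h1, h1⟩
  have hyC : y ∈ Subgroup.centralizer (ZP : Set G) := by
    rw [Subgroup.mem_centralizer_iff]
    intro z hz
    have := hyZ z (hZPZ hz)
    calc z * y = (y * z * y⁻¹) * y := by rw [this]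
      _ = y * z := by group
  obtain ⟨k, hk⟩ := cz_isPGroup c hC ⟨y, hyC⟩
  have hk' : y ^ (p ^ k) = 1 := by
    have := congrArg Subtype.val hk
    rwa [Subgroup.coe_pow] at this
  have hdvd : orderOf y ∣ p ^ k := orderOf_dvd_of_pow_eq_one hk'
  have h1 : orderOf y = 1 := by
    have hc2 : (orderOf y).Coprime (p ^ k) := Nat.Coprime.pow_right k hcop
    exact Nat.Coprime.eq_one_of_dvd hc2 hdvd
  exact orderOf_eq_one_iff.mp h1

end TJFinal1

end Cfsg.Agent.Lib.Helper1.GNPC2
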