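import Mathlib
import Cfsg.Agent.Lib.Helper1.GNPC2.TJFinal1
import Cfsg.Agent.Lib.Helper1.GNPC2.FF6
import Cfsg.Agent.Lib.Helper5.Card

set_option autoImplicit false

namespace Cfsg.Agent.Lib.Helper1.GNPC2

open Cfsg Cfsg.Agent.S5306 Cfsg.Agent.Lib.Helper1.TNPC Cfsg.Agent.Lib.Helper1.GNPC
  Cfsg.Agent.Lib.Helper9

open scoped IsMulCommutative

section TJFinal2

variable {G : Type*} [Group G]

theorem offender_ineq [Finite G] {P A V H : Subgroup G}
    (hA : A ∈ famQ (fun A : Subgroup G => IsMulCommutative A) P)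
    (hVc : IsMulCommutative V) (hVP : V ≤ P) (hHP : H ≤ P)
    (hHV : H ≤ Subgroup.centralizer (V : Set G)) :
    Nat.card V * Nat.card ↥(A ⊓ H) ≤
      Nat.card A * Nat.card ↥(V ⊓ Subgroup.centralizer (A : Set G)) := by
  obtain ⟨hAP, hAc, hAmax⟩ := hA
  have hAHc : IsMulCommutative ↥(A ⊓ H) := by
    refine ⟨⟨?_⟩⟩
    rintro ⟨a, ha⟩ ⟨b, hb⟩
    apply Subtype.ext
    exact setLike_mul_comm (s := A) ha.1 hb.1
  have hcent : A ⊓ H ≤ Subgroup.centralizer (V : Set G) := inf_le_right.trans hHV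
  have hB : IsMulCommutative ↥(V ⊔ (A ⊓ H)) := comm_sup hVc hAHc hcent
  have h1 := hAmax (V ⊔ (A ⊓ H)) (sup_le hVP (inf_le_right.trans hHP)) hB
  have h2 := Cfsg.Agent.Lib.Helper5.card_mul_card_le_sup_mul_inf V (A ⊓ H)
  have h3 : V ⊓ (A ⊓ H) ≤ V ⊓ Subgroup.centralizer (A : Set G) := by
    intro x hx
    refine ⟨hx.1, ?_⟩
    show x ∈ Subgroup.centralizer (A : Set G)
    rw [Subgroup.mem_centralizer_iff]
    intro a ha
    exact setLike_mul_comm (s := A) ha hx.2.1
  have h4 := Subgroup.card_le_of_le h3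
  calc Nat.card V * Nat.card ↥(A ⊓ H)
      ≤ Nat.card ↥(V ⊔ (A ⊓ H)) * Nat.card ↥(V ⊓ (A ⊓ H)) := h2
    _ ≤ Nat.card A * Nat.card ↥(V ⊓ Subgroup.centralizer (A : Set G)) :=
      Nat.mul_le_mul h1 h4

theorem card_le_inf_ker_mul_map [Finite G] {G' : Type*} [Group G'] (f : G →* G')
    (A : Subgroup G) : Nat.card A ≤ Nat.card ↥(A ⊓ f.ker) * Nat.card (A.map f) := by
  set ψ := f.domRestrict A with hψ
  have h1 : Nat.card ψ.ker * Nat.card ψ.range = Nat.card A := by
    rw [← Subgroup.index_ker]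
    exact ψ.ker.card_mul_index
  have h2 : ψ.range = A.map f := MonoidHom.domRestrict_range A f
  have h3 : Nat.card ψ.ker ≤ Nat.card ↥(A ⊓ f.ker) := by
    let g : ↥ψ.ker → ↥(A ⊓ f.ker) := fun x => ⟨x.1.1, x.1.2, by
      have := x.2
      rw [MonoidHom.mem_ker] at this
      exact MonoidHom.mem_ker.mpr this⟩
    apply Nat.card_le_card_of_injective g
    intro x x' hxx
    apply Subtype.ext
    apply Subtype.ext
    have h := congrArg Subtype.val hxx
    exact h
  rw [← h1, h2]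
  exact Nat.mul_le_mul_right _ h3

theorem conjNormal_eq_one_iff (V : Subgroup G) [V.Normal] (g : G) :
    (MulAut.conjNormal g : MulAut ↥V) = 1 ↔ g ∈ Subgroup.centralizer (V : Set G) := by
  rw [Subgroup.mem_centralizer_iff]
  constructor
  · intro h v hv
    have h1 : (MulAut.conjNormal g : MulAut ↥V) ⟨v, hv⟩ = ⟨v, hv⟩ := by rw [h]; rfl
    have h2 : g * v * g⁻¹ = v := by
      have := congrArg Subtype.val h1
      rwa [MulAut.conjNormal_apply] at this
    calc v * g = (g * v * g⁻¹) * g := by rw [h2]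
      _ = g * v := by group
  · intro h
    ext v
    rw [MulAut.conjNormal_apply, MulAut.one_apply]
    have := h v v.2
    calc g * (v : G) * g⁻¹ = (v * g) * g⁻¹ := by rw [this]
      _ = v := by group

theorem card_cent_le_fixSub [Finite G] (V A : Subgroup G) [V.Normal] [IsMulCommutative V] :
    Nat.card ↥(V ⊓ Subgroup.centralizer (A : Set G)) ≤
      Nat.card (fixSub (V := ↥V) (A.map (MulAut.conjNormal : G →* MulAut ↥V))) := by
  let g : ↥(V ⊓ Subgroup.centralizer (A : Set G)) →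
      ↥(fixSub (V := ↥V) (A.map (MulAut.conjNormal : G →* MulAut ↥V))) := fun x =>
    ⟨⟨x.1, x.2.1⟩, by
      rintro _ ⟨a, ha, rfl⟩
      apply Subtype.ext
      rw [MulAut.conjNormal_apply]
      have := Subgroup.mem_centralizer_iff.mp x.2.2 a ha
      show a * (x : G) * a⁻¹ = x
      rw [this]
      group⟩
  apply Nat.card_le_card_of_injective g
  intro x x' hxx
  apply Subtype.ext
  have h1 := congrArg Subtype.val hxx
  have h2 := congrArg Subtype.val h1
  exact h2

theorem quad_sq_mem {A V : Subgroup G} [hVn : V.Normal] (hAc : IsMulCommutative A)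
    (hVA : V ≤ Subgroup.normalizer (A : Set G)) (hV2 : ∀ v ∈ V, v * v = 1) (a : G) (ha : a ∈ A) :
    a * a ∈ Subgroup.centralizer (V : Set G) := by
  rw [Subgroup.mem_centralizer_iff]
  intro v hv
  set c := a * v * a⁻¹ * v⁻¹ with hc
  have hcV : c ∈ V := V.mul_mem (hVn.conj_mem v hv a) (V.inv_mem hv)
  have hcA : c ∈ A := by
    have h1 : v * a * v⁻¹ ∈ A := (Subgroup.mem_normalizer_iff.mp (hVA hv) a).mp ha
    have h2 : v * a * v⁻¹ * a⁻¹ ∈ A := A.mul_mem h1 (A.inv_mem ha)
    have e : c = (v * a * v⁻¹ * a⁻¹)⁻¹ := by rw [hc]; group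
    rw [e]
    exact A.inv_mem h2
  have hca : c * a = a * c := setLike_mul_comm (s := A) hcA ha
  have hcc : c * c = 1 := hV2 c hcV
  have h1 : a * v = c * v * a := by rw [hc]; group
  calc v * (a * a) = (1 : G) * v * a * a := by group
    _ = (c * c) * v * a * a := by rw [hcc]
    _ = c * (c * v * a) * a := by group
    _ = c * (a * v) * a := by rw [h1]
    _ = (c * a) * v * a := by group
    _ = (a * c) * v * a := by rw [hca]
    _ = a * (c * v * a) := by group
    _ = a * (a * v) := by rw [h1]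
    _ = a * a * v := by group

end TJFinal2

end Cfsg.Agent.Lib.Helper1.GNPC2
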