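import Mathlib
import Cfsg.Agent.Lib.Helper1.GNPC2.TJFinal2

set_option autoImplicit false

namespace Cfsg.Agent.Lib.Helper1.GNPC2

open Cfsg Cfsg.Agent.S5306 Cfsg.Agent.Lib.Helper1.TNPC Cfsg.Agent.Lib.Helper1.GNPC
  Cfsg.Agent.Lib.Helper9

open scoped IsMulCommutative

universe u

section TJFinal3

variable {G : Type u} [Group G] [Finite G] {p : ℕ} [hp : Fact p.Prime] {P : Sylow p G}
  {H : Subgroup G} [hHn : H.Normal] {Kb : Subgroup (G ⧸ H)}

theorem ff_hyp (c : FinalCfg p G P H Kb) (hp2 : p = 2)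
    (hC : HasNormalPComplement p ↥(Subgroup.centralizer
      (((P : Subgroup G) ⊓ Subgroup.centralizer ((P : Subgroup G) : Set G) : Subgroup G) : Set G)))
    (A : Subgroup G) (hA : A ∈ famQ (fun A : Subgroup G => IsMulCommutative A) (P : Subgroup G))
    (hVA : omegaZ p H ≤ Subgroup.normalizer (A : Set G))
    [hVn : (omegaZ p H).Normal] [hVc : IsMulCommutative ↥(omegaZ p H)] :
    FFHyp (V := ↥(omegaZ p H))
      ((Kb.comap (QuotientGroup.mk' H)).map (MulAut.conjNormal : G →* MulAut ↥(omegaZ p H)))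
      (A.map (MulAut.conjNormal : G →* MulAut ↥(omegaZ p H))) (Nat.card Kb) := by
  set V := omegaZ p H with hV
  set φ : G →* MulAut ↥V := MulAut.conjNormal with hφ
  set K := Kb.comap (QuotientGroup.mk' H) with hK
  haveI hKn : K.Normal := c.k.normal
  have hHV : H ≤ Subgroup.centralizer (V : Set G) := le_centralizer_omegaZ H
  have hCV : Subgroup.centralizer (V : Set G) ≤ H := centV_le' c hC
  have hker : ∀ g : G, φ g = 1 ↔ g ∈ H := by
    intro g
    rw [hφ, conjNormal_eq_one_iff]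
    exact ⟨fun h => hCV h, fun h => hHV h⟩
  have hV2 : ∀ v ∈ V, v * v = 1 := by
    intro v hv
    have := hv.2.2
    rw [hp2, pow_two] at this
    exact this
  refine ⟨?_, ?_, ?_, ?_, ?_, ?_, ?_, ?_⟩
  · intro v
    apply Subtype.ext
    exact hV2 v v.2
  · rintro _ ⟨k, hk, rfl⟩ _ ⟨k', hk', rfl⟩
    have h1 : k * k' * k⁻¹ * k'⁻¹ ∈ H := c.K_comm k k' hk hk'
    have h2 := (hker _).mpr h1
    rw [map_mul, map_mul, map_mul, map_inv, map_inv] at h2
    calc φ k * φ k' = (φ k * φ k' * (φ k)⁻¹ * (φ k')⁻¹) * φ k' * φ k := by group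
      _ = φ k' * φ k := by rw [h2, one_mul]
  · have := c.k.hcop
    rw [hp2] at this
    exact Nat.Coprime.odd_of_right this
  · rintro _ ⟨k, hk, rfl⟩
    rw [← map_pow, hker]
    rw [← QuotientGroup.eq_one_iff]
    have h1 : (⟨QuotientGroup.mk' H k, hk⟩ : Kb) ^ Nat.card Kb = 1 := pow_card_eq_one'
    have h2 := congrArg Subtype.val h1
    rw [Subgroup.coe_pow] at h2
    exact h2
  · rintro _ ⟨a, ha, rfl⟩ _ ⟨a', ha', rfl⟩
    haveI : IsMulCommutative ↥A := hA.2.1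
    rw [← map_mul, ← map_mul, setLike_mul_comm (s := A) ha ha']
  · rintro _ ⟨a, ha, rfl⟩
    rw [← map_mul, hker]
    exact hCV (quad_sq_mem hA.2.1 hVA hV2 a ha)
  · rintro _ ⟨a, ha, rfl⟩ _ ⟨k, hk, rfl⟩
    refine ⟨a * k * a⁻¹, hKn.conj_mem k hk a, ?_⟩
    rw [map_mul, map_mul, map_inv]
  · rintro _ ⟨a, ha, rfl⟩ hcen
    rw [hker]
    by_contra haH
    obtain ⟨x, hxK, hxH⟩ := c.exists_noncentral a (hA.1 ha) haH
    apply hxH
    rw [← hker, map_mul, map_mul, map_mul, map_inv, map_inv,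
      hcen (φ x) ⟨x, hxK, rfl⟩, mul_inv_cancel]

theorem ff_apply (c : FinalCfg p G P H Kb) (hp2 : p = 2)
    (hC : HasNormalPComplement p ↥(Subgroup.centralizer
      (((P : Subgroup G) ⊓ Subgroup.centralizer ((P : Subgroup G) : Set G) : Subgroup G) : Set G)))
    (A : Subgroup G) (hA : A ∈ famQ (fun A : Subgroup G => IsMulCommutative A) (P : Subgroup G))
    (hAH : ¬ A ≤ H) (hVA : omegaZ p H ≤ Subgroup.normalizer (A : Set G)) :
    ∃ a ∈ A, ∃ k ∈ Kb.comap (QuotientGroup.mk' H), ∃ U : Subgroup G, U ≤ omegaZ p H ∧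
      Nat.card U = 4 ∧ k ∉ H ∧ k ^ 3 ∈ H ∧ a * k * a⁻¹ * k ∈ H ∧ a * a ∈ H ∧
      (∀ u ∈ U, k * u * k⁻¹ ∈ U) ∧ (∀ u ∈ U, a * u * a⁻¹ ∈ U) ∧
      (∀ u ∈ U, k * u * k⁻¹ = u → u = 1) ∧ ∃ u ∈ U, a * u * a⁻¹ ≠ u := by
  haveI hVn : (omegaZ p H).Normal := omegaZ_normal H
  haveI hVc : IsMulCommutative ↥(omegaZ p H) := (omegaZ_ea H).1
  have h := ff_hyp c hp2 hC A hA hVA
  set V := omegaZ p H with hV
  set φ : G →* MulAut ↥V := MulAut.conjNormal with hφ
  set K := Kb.comap (QuotientGroup.mk' H) with hK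
  have hHV : H ≤ Subgroup.centralizer (V : Set G) := le_centralizer_omegaZ H
  have hCV : Subgroup.centralizer (V : Set G) ≤ H := centV_le' c hC
  have hVP : V ≤ (P : Subgroup G) := (omegaZ_le H).trans c.hHP
  have hker : ∀ g : G, φ g = 1 ↔ g ∈ H := by
    intro g
    rw [hφ, conjNormal_eq_one_iff]
    exact ⟨fun h => hCV h, fun h => hHV h⟩
  have hDne : A.map φ ≠ ⊥ := by
    obtain ⟨a₀, ha₀A, ha₀H⟩ := SetLike.not_le_iff_exists.mp hAH
    intro hbot
    have h1 : φ a₀ ∈ A.map φ := ⟨a₀, ha₀A, rfl⟩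
    rw [hbot, Subgroup.mem_bot, hker] at h1
    exact ha₀H h1
  have hoff : Nat.card ↥V ≤ Nat.card (A.map φ) * Nat.card (fixSub (V := ↥V) (A.map φ)) := by
    have h1 := offender_ineq hA hVc hVP c.hHP hHV
    have h2 := card_le_inf_ker_mul_map φ A
    have h3 : Nat.card ↥(A ⊓ φ.ker) ≤ Nat.card ↥(A ⊓ H) := by
      apply Subgroup.card_le_of_le
      intro x hx
      exact ⟨hx.1, (hker x).mp (MonoidHom.mem_ker.mp hx.2)⟩
    have h4 := card_cent_le_fixSub V A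
    have hpos : 0 < Nat.card ↥(A ⊓ H) := Nat.card_pos
    have h5 : Nat.card ↥(A ⊓ H) * Nat.card ↥V ≤
        Nat.card ↥(A ⊓ H) * (Nat.card (A.map φ) * Nat.card (fixSub (V := ↥V) (A.map φ))) := by
      calc Nat.card ↥(A ⊓ H) * Nat.card ↥V = Nat.card ↥V * Nat.card ↥(A ⊓ H) := mul_comm _ _
        _ ≤ Nat.card A * Nat.card ↥(V ⊓ Subgroup.centralizer (A : Set G)) := h1
        _ ≤ (Nat.card ↥(A ⊓ φ.ker) * Nat.card (A.map φ)) *
            Nat.card (fixSub (V := ↥V) (A.map φ)) := Nat.mul_le_mul h2 h4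
        _ ≤ (Nat.card ↥(A ⊓ H) * Nat.card (A.map φ)) *
            Nat.card (fixSub (V := ↥V) (A.map φ)) :=
          Nat.mul_le_mul_right _ (Nat.mul_le_mul_right _ h3)
        _ = _ := by ring
    exact Nat.le_of_mul_le_mul_left h5 hpos
  obtain ⟨a', ⟨a, haA, rfl⟩, y', ⟨k, hkK, rfl⟩, hy1, hy3, hinv, U', hU4, hUy, hUa, hUfix, u₀, hu₀U, hu₀⟩ :=
    ff_main h hDne hoff
  refine ⟨a, haA, k, hkK, U'.map V.subtype, Subgroup.map_subtype_le U', ?_, ?_, ?_, ?_, ?_, ?_, ?_,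
    ?_, ?_⟩
  · rw [Subgroup.card_map_of_injective V.subtype_injective]
    exact hU4
  · intro hkH
    exact hy1 ((hker k).mpr hkH)
  · rw [← hker, map_pow]
    exact hy3
  · rw [← hker, map_mul, map_mul, map_mul, map_inv, hinv, inv_mul_cancel]
  · rw [← hker, map_mul]
    exact h.hD2 _ ⟨a, haA, rfl⟩
  · rintro _ ⟨u', hu', rfl⟩
    refine ⟨φ k u', hUy u' hu', ?_⟩
    show ((φ k u' : ↥V) : G) = k * (u' : G) * k⁻¹
    rw [hφ, MulAut.conjNormal_apply]
  · rintro _ ⟨u', hu', rfl⟩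
    refine ⟨φ a u', hUa u' hu', ?_⟩
    show ((φ a u' : ↥V) : G) = a * (u' : G) * a⁻¹
    rw [hφ, MulAut.conjNormal_apply]
  · rintro _ ⟨u', hu', rfl⟩ hfix
    have h1 : φ k u' = u' := by
      apply Subtype.ext
      rw [hφ, MulAut.conjNormal_apply]
      exact hfix
    have h2 := hUfix u' hu' h1
    show ((u' : ↥V) : G) = 1
    rw [h2]
    rfl
  · refine ⟨(u₀ : G), ⟨u₀, hu₀U, rfl⟩, ?_⟩
    intro hfix
    apply hu₀
    apply Subtype.ext
    rw [hφ, MulAut.conjNormal_apply]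
    exact hfix

end TJFinal3

end Cfsg.Agent.Lib.Helper1.GNPC2
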