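import Mathlib
import Cfsg.Agent.Lib.Helper1.GNPC2.S4Rec
import Cfsg.Agent.Lib.Helper22.Sylow2

set_option autoImplicit false

namespace Cfsg.Agent.Lib.Helper1.GNPC2

section TJFinal4

variable {G : Type*} [Group G]

theorem mem_normalizer_of_forall_conj_mem (Q : Subgroup G) [Finite Q] (g : G)
    (h : ∀ q ∈ Q, g * q * g⁻¹ ∈ Q) : g ∈ Subgroup.normalizer (Q : Set G) := by
  rw [Subgroup.mem_normalizer_iff]
  intro x
  refine ⟨h x, ?_⟩
  intro hx
  let c : ↥Q → ↥Q := fun q => ⟨g * q * g⁻¹, h q q.2⟩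
  have hinj : Function.Injective c := by
    intro q q' hqq
    apply Subtype.ext
    have h1 : g * (q : G) * g⁻¹ = g * q' * g⁻¹ := congrArg Subtype.val hqq
    exact mul_left_cancel (mul_right_cancel h1)
  obtain ⟨q, hq⟩ := (Finite.injective_iff_surjective.mp hinj) ⟨g * x * g⁻¹, hx⟩
  have h1 : g * (q : G) * g⁻¹ = g * x * g⁻¹ := congrArg Subtype.val hq
  have h2 : (q : G) = x := mul_left_cancel (mul_right_cancel h1)
  rw [← h2]
  exact q.2

theorem pow_card_eq_one_of_mem [Finite G] {H : Subgroup G} {x : G} (hx : x ∈ H) :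
    x ^ Nat.card H = 1 := by
  have h1 : (⟨x, hx⟩ : H) ^ Nat.card H = 1 := pow_card_eq_one'
  have h2 := congrArg Subtype.val h1
  rwa [Subgroup.coe_pow] at h2

theorem four_pow_eq (h : ℕ) : ∃ j : ℕ, 4 ^ h = 3 * j + 1 := by
  have h1 : 4 ^ h % 3 = 1 := by
    rw [Nat.pow_mod]
    norm_num
  exact ⟨4 ^ h / 3, by omega⟩

theorem s4_of_ff [Finite G] (H V : Subgroup G) [hHn : H.Normal] (hH2 : IsPGroup 2 H)
    (hHV : H ≤ Subgroup.centralizer (V : Set G)) (a k : G) (U : Subgroup G) (hUV : U ≤ V)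
    (hU4 : Nat.card U = 4) (hkH : k ∉ H) (hk3 : k ^ 3 ∈ H) (hinv : a * k * a⁻¹ * k ∈ H)
    (haa : a * a ∈ H) (hUk : ∀ u ∈ U, k * u * k⁻¹ ∈ U) (hUa : ∀ u ∈ U, a * u * a⁻¹ ∈ U)
    (hfix : ∀ u ∈ U, k * u * k⁻¹ = u → u = 1) (hne : ∃ u ∈ U, a * u * a⁻¹ ≠ u) :
    Cfsg.Involves (Equiv.Perm (Fin 4)) G := by
  haveI : Fact (Nat.Prime 2) := ⟨Nat.prime_two⟩
  haveI : Fact (Nat.Prime 3) := ⟨Nat.prime_three⟩
  obtain ⟨h, hh⟩ := IsPGroup.iff_card.mp hH2
  obtain ⟨j, hj⟩ := four_pow_eq h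
  have hcentU : ∀ x ∈ H, ∀ u ∈ U, x * u * x⁻¹ = u := by
    intro x hx u hu
    have := Subgroup.mem_centralizer_iff.mp (hHV hx) u (hUV hu)
    calc x * u * x⁻¹ = (u * x) * x⁻¹ := by rw [this]
      _ = u := by group
  set z := (k ^ 3) ^ j with hz
  have hzH : z ∈ H := H.pow_mem hk3 j
  set y := z * k with hy
  have hyk : y = k ^ (4 ^ h) := by
    rw [hy, hz, hj, pow_add, pow_mul, pow_one]
  have hy3 : y ^ 3 = 1 := by
    have h1 : (k ^ 3) ^ Nat.card H = 1 := pow_card_eq_one_of_mem hk3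
    have h2 : (4 : ℕ) ^ h = Nat.card H * Nat.card H := by
      rw [hh, ← pow_add, ← two_mul, pow_mul]
      norm_num
    rw [hyk, ← pow_mul, mul_comm, pow_mul, h2, pow_mul, h1, one_pow]
  have hy1 : y ≠ 1 := by
    intro h1
    apply hkH
    have : k = z⁻¹ := by
      rw [hy] at h1
      exact eq_inv_of_mul_eq_one_right h1
    rw [this]
    exact H.inv_mem hzH
  have hyord : orderOf y = 3 := orderOf_eq_prime hy3 hy1
  have hyU : ∀ u ∈ U, y * u * y⁻¹ = k * u * k⁻¹ := by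
    intro u hu
    have h1 := hcentU z hzH (k * u * k⁻¹) (hUk u hu)
    rw [hy]
    calc z * k * u * (z * k)⁻¹ = z * (k * u * k⁻¹) * z⁻¹ := by group
      _ = k * u * k⁻¹ := h1
  haveI : Finite U := inferInstance
  have hyN : y ∈ Subgroup.normalizer (U : Set G) := by
    apply mem_normalizer_of_forall_conj_mem
    intro u hu
    rw [hyU u hu]
    exact hUk u hu
  have hyfix : ∀ u ∈ U, y * u * y⁻¹ = u → u = 1 := by
    intro u hu hf
    rw [hyU u hu] at hf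
    exact hfix u hu hf
  set u₁ := a * y * a⁻¹ with hu₁
  have hu₁y : u₁ * y ∈ H := by
    have e : u₁ * y = (a * z * a⁻¹) * (a * k * a⁻¹ * k) * (k⁻¹ * z * k) := by
      rw [hu₁, hy]
      group
    rw [e]
    refine H.mul_mem (H.mul_mem (hHn.conj_mem z hzH a) hinv) ?_
    have := hHn.conj_mem z hzH k⁻¹
    rwa [inv_inv] at this
  have hu₁L : u₁ ∈ Subgroup.zpowers y ⊔ H := by
    have e : u₁ = (u₁ * y) * y⁻¹ := by group
    rw [e]
    exact Subgroup.mul_mem _ (Subgroup.mem_sup_right hu₁y)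
      (Subgroup.mem_sup_left (Subgroup.inv_mem _ (Subgroup.mem_zpowers y)))
  have hu₁ord : orderOf u₁ = 3 ^ 1 := by
    rw [pow_one]
    apply orderOf_eq_prime
    · rw [hu₁, conj_pow, hy3]
      group
    · intro h1
      apply hy1
      have : y = a⁻¹ * u₁ * a := by rw [hu₁]; group
      rw [this, h1]
      group
  have hQp : IsPGroup 3 (Subgroup.zpowers y) := by
    apply IsPGroup.of_card (n := 1)
    rw [Nat.card_zpowers, hyord, pow_one]
  have hcardH : ¬ 3 ∣ Nat.card H := by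
    rw [hh]
    intro hdvd
    have := Nat.Prime.dvd_of_dvd_pow Nat.prime_three hdvd
    omega
  have hidx := Cfsg.Agent.Lib.Helper22.not_dvd_relIndex_zpowers_sup 3 y 1
    (by rw [pow_one]; exact hyord) H hcardH
  obtain ⟨l, hlL, hlQ⟩ := Cfsg.Agent.Lib.Helper22.exists_conj_mem_of_pelement 3
    (Subgroup.zpowers y ⊔ H) (Subgroup.zpowers y) hQp hidx u₁ hu₁L 1 hu₁ord
  obtain ⟨q, hq, h₂, hh₂, hql⟩ := Subgroup.mem_sup_of_normal_right.mp hlL
  set h₃ := q * h₂⁻¹ * q⁻¹ with hh₃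
  have hh₃H : h₃ ∈ H := hHn.conj_mem _ (H.inv_mem hh₂) q
  have hconj : h₃ * u₁ * h₃⁻¹ ∈ Subgroup.zpowers y := by
    have e : h₃ * u₁ * h₃⁻¹ = q * (l⁻¹ * u₁ * l) * q⁻¹ := by
      rw [hh₃, ← hql]
      group
    rw [e]
    exact Subgroup.mul_mem _ (Subgroup.mul_mem _ hq hlQ) (Subgroup.inv_mem _ hq)
  set t := h₃ * a with ht
  have hty : t * y * t⁻¹ ∈ Subgroup.zpowers y := by
    have e : t * y * t⁻¹ = h₃ * u₁ * h₃⁻¹ := by
      rw [ht, hu₁]
      group
    rw [e]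
    exact hconj
  haveI : Finite (Subgroup.zpowers y) := inferInstance
  have htN : t ∈ Subgroup.normalizer ((Subgroup.zpowers y : Subgroup G) : Set G) := by
    apply mem_normalizer_of_forall_conj_mem
    intro q' hq'
    obtain ⟨i, rfl⟩ := Subgroup.mem_zpowers_iff.mp hq'
    rw [← conj_zpow]
    exact Subgroup.zpow_mem _ hty i
  have htU : ∀ u ∈ U, t * u * t⁻¹ = a * u * a⁻¹ := by
    intro u hu
    have h1 := hcentU h₃ hh₃H (a * u * a⁻¹) (hUa u hu)
    rw [ht]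
    calc h₃ * a * u * (h₃ * a)⁻¹ = h₃ * (a * u * a⁻¹) * h₃⁻¹ := by group
      _ = a * u * a⁻¹ := h1
  have htNU : t ∈ Subgroup.normalizer (U : Set G) := by
    apply mem_normalizer_of_forall_conj_mem
    intro u hu
    rw [htU u hu]
    exact hUa u hu
  have htne : ∃ u ∈ U, t * u * t⁻¹ ≠ u := by
    obtain ⟨u, hu, hne'⟩ := hne
    refine ⟨u, hu, ?_⟩
    rw [htU u hu]
    exact hne'
  have httH : t * t ∈ H := by
    have e : t * t = h₃ * (a * h₃ * a⁻¹) * (a * a) := by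
      rw [ht]
      group
    rw [e]
    exact H.mul_mem (H.mul_mem hh₃H (hHn.conj_mem h₃ hh₃H a)) haa
  have ht2 : ∀ u ∈ U, (t * t) * u * (t * t)⁻¹ = u := fun u hu => hcentU (t * t) httH u hu
  exact s4_involved U hU4 y t hyN hy3 hyfix htNU htN htne ht2

end TJFinal4

end Cfsg.Agent.Lib.Helper1.GNPC2
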