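import Mathlib
import Cfsg.Agent.Lib.Helper1.GNPC2.TJFinal3
import Cfsg.Agent.Lib.Helper1.GNPC2.TJFinal4

set_option autoImplicit false

namespace Cfsg.Agent.Lib.Helper1.GNPC2

open Cfsg Cfsg.Agent.S5306 Cfsg.Agent.Lib.Helper1.TNPC Cfsg.Agent.Lib.Helper1.GNPC
  Cfsg.Agent.Lib.Helper9

universe u

section TJFinal5

variable {G : Type u} [Group G] [Finite G] {p : ℕ} [hp : Fact p.Prime] {P : Sylow p G}
  {H : Subgroup G} [hHn : H.Normal] {Kb : Subgroup (G ⧸ H)}

theorem tj_final_two (hp2 : p = 2) (c : FinalCfg p G P H Kb)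
    (hg : ¬ Cfsg.Involves (Equiv.Perm (Fin 4)) G)
    (h : (tjSpec.{u} p).Hy G (P : Subgroup G)) : HasNormalPComplement p G := by
  apply final_of_tja_le c ?_ h.2
  by_contra hJ
  have hex : ∃ A ∈ famQ (fun A : Subgroup G => IsMulCommutative A) (P : Subgroup G), ¬ A ≤ H := by
    by_contra hall
    push Not at hall
    apply hJ
    rw [thompsonSubgroupAOf_eq_sSup]
    exact sSup_le hall
  haveI hVn : (omegaZ p H).Normal := omegaZ_normal H
  have hVc : IsMulCommutative ↥(omegaZ p H) := (omegaZ_ea H).1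
  have hHV : H ≤ Subgroup.centralizer (omegaZ p H : Set G) := le_centralizer_omegaZ H
  have hVP : omegaZ p H ≤ (P : Subgroup G) := (omegaZ_le H).trans c.hHP
  have hPV : (P : Subgroup G) ≤ Subgroup.normalizer (omegaZ p H : Set G) := by
    rw [Subgroup.normalizer_eq_top_iff.mpr hVn]
    exact le_top
  obtain ⟨A, hA, hAH, hVA⟩ := exists_quadratic_comm P.isPGroup' hVc hVP hPV hHV hex
  obtain ⟨a, _, k, _, U, hUV, hU4, hkH, hk3, hinv, haa, hUk, hUa, hfix, hne⟩ :=
    ff_apply c hp2 h.1 A hA hAH hVA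
  have hH2 : IsPGroup 2 H := by
    have := c.hHp
    rwa [hp2] at this
  exact hg (s4_of_ff H (omegaZ p H) hH2 hHV a k U hUV hU4 hkH hk3 hinv haa hUk hUa hfix hne)

theorem tj_final (c : FinalCfg p G P H Kb) (hg : (tjSpec.{u} p).Good G)
    (h : (tjSpec.{u} p).Hy G (P : Subgroup G)) : HasNormalPComplement p G := by
  by_cases hp2 : p = 2
  · rcases hg with h1 | h1
    · exact absurd hp2 h1
    · exact tj_final_two hp2 c h1 h
  · exact tj_final_odd hp2 c h

end TJFinal5

section TJMain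

theorem thompson_npc_abelian {G : Type u} [Group G] [Finite G] {p : ℕ} [hp : Fact p.Prime]
    (S : Sylow p G) (h : p ≠ 2 ∨ ¬ Cfsg.Involves (Equiv.Perm (Fin 4)) G)
    (hC : Cfsg.HasNormalPComplement p ↥(Subgroup.centralizer
      (((S : Subgroup G) ⊓ Subgroup.centralizer ((S : Subgroup G) : Set G) : Subgroup G) : Set G)))
    (hN : Cfsg.HasNormalPComplement p
      ↥(Subgroup.normalizer ((Cfsg.thompsonSubgroupAOf (S : Subgroup G)) : Set G))) :
    Cfsg.HasNormalPComplement p G :=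
  generic_npcG (tjSpec.{u} p) (fun _ _ _ _ _ _ _ c hg hy => tj_final c hg hy) S h ⟨hC, hN⟩

end TJMain

end Cfsg.Agent.Lib.Helper1.GNPC2
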